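import Cfsg.Agent.EqLemmas

/-!
# Collineations of a finite projective space of dimension at least two are semilinear
* `exists_semilinear` : a map on nonzero vectors sending lines into lines, injective and surjective
  on points, is `v ↦ g σ(v)` up to scalars.
-/

set_option autoImplicit false

open Matrix

namespace Cfsg.Agent.AutPSp

variable {ι : Type} [Fintype ι] [DecidableEq ι] {F : Type*} [Field F]

/-- Nonzero proportional vectors. -/
def Par (a b : ι → F) : Prop := ∃ k : F, k ≠ 0 ∧ b = k • a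

omit [Fintype ι] [DecidableEq ι] in
theorem Par.refl (a : ι → F) : Par a a := ⟨1, one_ne_zero, (one_smul F a).symm⟩

omit [Fintype ι] [DecidableEq ι] in
theorem Par.symm {a b : ι → F} : Par a b → Par b a
  | ⟨k, hk, h⟩ => ⟨k⁻¹, inv_ne_zero hk, by rw [h, smul_smul, inv_mul_cancel₀ hk, one_smul]⟩

omit [Fintype ι] [DecidableEq ι] in
theorem Par.trans {a b c : ι → F} : Par a b → Par b c → Par a c
  | ⟨k, hk, h⟩, ⟨l, hl, h'⟩ => ⟨l * k, mul_ne_zero hl hk, by rw [h', h, smul_smul]⟩

/-- Maps sending lines into lines. -/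
structure IsColl (π : (ι → F) → (ι → F)) : Prop where
  ne_zero : ∀ v, v ≠ 0 → π v ≠ 0
  line : ∀ u v w, u ≠ 0 → v ≠ 0 → w ≠ 0 → w ∈ Submodule.span F {u, v} → π w ∈ Submodule.span F {π u, π v}
  inj : ∀ u v, u ≠ 0 → v ≠ 0 → Par (π u) (π v) → Par u v

variable {π : (ι → F) → (ι → F)}

omit [Fintype ι] in
theorem IsColl.map_span (h : IsColl π) (s : Finset (ι → F)) (hs : ∀ a ∈ s, a ≠ 0) :
    ∀ w, w ≠ 0 → w ∈ Submodule.span F (s : Set (ι → F)) → π w ∈ Submodule.span F (π '' s) := by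
  induction s using Finset.cons_induction with
  | empty =>
    intro w hw hmem
    simp [hw] at hmem
  | cons a t hat ih =>
    intro w hw hmem
    have ha : a ≠ 0 := hs a (Finset.mem_cons_self a t)
    rw [Finset.coe_cons, Submodule.mem_span_insert] at hmem
    rw [Finset.coe_cons, Set.image_insert_eq]
    obtain ⟨k, z, hz, rfl⟩ := hmem
    by_cases hz0 : z = 0
    · subst hz0
      have := h.line a a _ ha ha hw (by
        rw [add_zero]; exact Submodule.smul_mem _ _ (Submodule.subset_span (Or.inl rfl)))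
      exact Submodule.span_mono (by simp) this
    · have hπz := ih (fun b hb => hs b (Finset.mem_cons_of_mem hb)) z hz0 hz
      have hw' := h.line a z _ ha hz0 hw (add_mem (Submodule.smul_mem _ _ (Submodule.subset_span (Or.inl rfl)))
        (Submodule.subset_span (Or.inr rfl)))
      refine (Submodule.span_le.mpr ?_) hw'
      rintro _ (rfl | rfl)
      · exact Submodule.subset_span (Or.inl rfl)
      · exact Submodule.span_mono (Set.subset_insert _ _) hπz

omit [Fintype ι] in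
theorem IsColl.map_span' (h : IsColl π) (s : Set (ι → F)) (hs : ∀ a ∈ s, a ≠ 0) (w : ι → F) (hw : w ≠ 0)
    (hm : w ∈ Submodule.span F s) : π w ∈ Submodule.span F (π '' s) := by
  obtain ⟨T, hT, hwT⟩ := Submodule.mem_span_finite_of_mem_span hm
  exact Submodule.span_mono (Set.image_mono hT) (h.map_span T (fun a ha => hs a (hT ha)) w hw hwT)

/-- The coordinate vectors with index in `P`. -/
def singles (P : Set ι) : Set (ι → F) := (fun j => (Pi.single j 1 : ι → F)) '' P

theorem mem_span_singles {w : ι → F} {P : Set ι} (h : ∀ j, j ∉ P → w j = 0) :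
    w ∈ Submodule.span F (singles P) := by
  have hw : w = ∑ j, w j • (Pi.single j 1 : ι → F) := by
    ext i; simp [Finset.sum_apply, Pi.single_apply]
  rw [hw]
  refine Submodule.sum_mem _ fun j _ => ?_
  by_cases hj : j ∈ P
  · exact Submodule.smul_mem _ _ (Submodule.subset_span ⟨j, hj, rfl⟩)
  · rw [h j hj, zero_smul]; exact zero_mem _

omit [Fintype ι] in
theorem singles_ne {P : Set ι} : ∀ a ∈ (singles P : Set (ι → F)), a ≠ 0 := by
  rintro _ ⟨j, -, rfl⟩; simp

/-- The normalised case: coordinate points and the sums with the base one are fixed. -/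
theorem IsColl.normalised [Finite F] (h : IsColl π) (i₀ : ι) (hcard : 3 ≤ Fintype.card ι)
    (he : ∀ i, Par (Pi.single i 1) (π (Pi.single i 1)))
    (h1 : ∀ i, i ≠ i₀ → Par (Pi.single i₀ 1 + Pi.single i 1) (π (Pi.single i₀ 1 + Pi.single i 1))) :
    ∃ σ : F ≃+* F, ∀ v, v ≠ 0 → Par (σ ∘ v) (π v) := by
  classical
  have hsingle : ∀ i : ι, (Pi.single i (1 : F) : ι → F) ≠ 0 := by simp
  have kill : ∀ (L : (ι → F) →ₗ[F] F) (s : Set (ι → F)), (∀ a ∈ s, a ≠ 0) → (∀ a ∈ s, L (π a) = 0) →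
      ∀ w, w ≠ 0 → w ∈ Submodule.span F s → L (π w) = 0 := by
    intro L s hs hL w hw hm
    refine LinearMap.mem_ker.mp ((Submodule.span_le (p := LinearMap.ker L)).mpr ?_ (h.map_span' s hs w hw hm))
    rintro _ ⟨a, ha, rfl⟩
    exact hL a ha
  have coord : ∀ i j, j ≠ i → π (Pi.single j 1) i = 0 := by
    intro i j hj
    obtain ⟨k, -, hk⟩ := he j
    simp [hk, hj.symm]
  -- coordinate subspaces are preserved
  have supp_le : ∀ (w : ι → F) (i : ι), w ≠ 0 → w i = 0 → π w i = 0 := by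
    intro w i hw hwi
    exact kill (LinearMap.proj i) (singles {j | j ≠ i}) singles_ne
      (by rintro _ ⟨j, hj, rfl⟩; exact coord i j hj) w hw
      (mem_span_singles fun j (hj : ¬ j ≠ i) => by rw [not_not.mp hj, hwi])
  have supp_ge : ∀ (w : ι → F) (i : ι), w ≠ 0 → w i ≠ 0 → π w i ≠ 0 := by
    intro w i hw hwi h0
    have hmem : (Pi.single i 1 : ι → F) ∈ Submodule.span F (insert w (singles {j | j ≠ i})) := by
      rw [Submodule.mem_span_insert]
      refine ⟨(w i)⁻¹, Pi.single i 1 - (w i)⁻¹ • w, mem_span_singles (fun j (hj : ¬ j ≠ i) => ?_), by abel⟩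
      rw [not_not.mp hj]; simp [hwi]
    have hzero : π (Pi.single i 1) i = 0 := kill (LinearMap.proj i) _
      (by rintro a (rfl | ha); exacts [hw, singles_ne a ha])
      (by rintro a (rfl | ⟨j, hj, rfl⟩); exacts [h0, coord i j hj]) _ (hsingle i) hmem
    obtain ⟨k, hk0, hk⟩ := he i
    rw [hk] at hzero
    simp [hk0] at hzero
  let N : (ι → F) → (ι → F) := fun w => (π w i₀)⁻¹ • π w
  let S : ι → F → F := fun i a => N (Pi.single i₀ 1 + Pi.single i a) i
  have hu : ∀ i, i ≠ i₀ → ∀ a, (Pi.single i₀ 1 + Pi.single i a : ι → F) i₀ = 1 := by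
    intro i hi a; simp [hi.symm]
  have ne_of_one : ∀ {w : ι → F}, w i₀ = 1 → w ≠ 0 := fun hw h => by simp [h] at hw
  have key : ∀ w : ι → F, w i₀ = 1 → ∀ i, i ≠ i₀ → N w i = S i (w i) := by
    intro w hw i hi
    set u : ι → F := Pi.single i₀ 1 + Pi.single i (w i) with hudef
    have hmem : w ∈ Submodule.span F (insert u (singles {j | j ≠ i ∧ j ≠ i₀})) := by
      rw [Submodule.mem_span_insert]
      refine ⟨1, w - u, mem_span_singles (fun j (hj : ¬ (j ≠ i ∧ j ≠ i₀)) => ?_), by rw [one_smul]; abel⟩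
      by_cases hji : j = i
      · subst hji; simp [hudef, hi]
      · have : j = i₀ := by by_contra hj0; exact hj ⟨hji, hj0⟩
        subst this; simp [hudef, hw, hi.symm]
    have hu0 : u ≠ 0 := ne_of_one (hu i hi _)
    let L : (ι → F) →ₗ[F] F := π u i₀ • LinearMap.proj i - π u i • LinearMap.proj i₀
    have hL : L (π w) = 0 := kill L _ (by rintro a (rfl | ha); exacts [hu0, singles_ne a ha])
      (by
        rintro a (rfl | ⟨j, ⟨hji, hj0⟩, rfl⟩)
        · simp [L, mul_comm]
        · simp [L, coord i j hji, coord i₀ j hj0]) w (ne_of_one hw) hmem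
    simp only [L, LinearMap.sub_apply, LinearMap.smul_apply, LinearMap.proj_apply, smul_eq_mul] at hL
    have n1 := supp_ge w i₀ (ne_of_one hw) (by rw [hw]; exact one_ne_zero)
    have n2 := supp_ge u i₀ hu0 (by rw [hudef, hu i hi]; exact one_ne_zero)
    show (π w i₀)⁻¹ * π w i = (π u i₀)⁻¹ * π u i
    field_simp
    linear_combination hL
  have N0 : ∀ w : ι → F, w i₀ = 1 → N w i₀ = 1 := fun w hw =>
    inv_mul_cancel₀ (supp_ge w i₀ (ne_of_one hw) (by rw [hw]; exact one_ne_zero))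
  have S0 : ∀ i, i ≠ i₀ → S i 0 = 0 := by
    intro i hi
    show (π _ i₀)⁻¹ * π _ i = 0
    rw [supp_le _ i (ne_of_one (hu i hi 0)) (by simp [hi]), mul_zero]
  have S1 : ∀ i, i ≠ i₀ → S i 1 = 1 := by
    intro i hi
    obtain ⟨k, hk0, hk⟩ := h1 i hi
    show (π (Pi.single i₀ 1 + Pi.single i 1) i₀)⁻¹ * π (Pi.single i₀ 1 + Pi.single i 1) i = 1
    rw [hk]; simp [hi, hi.symm, hk0]
  -- points of the hyperplane at infinity
  have key2 : ∀ w b : ι → F, w ≠ 0 → w i₀ = 0 → b i₀ = 1 → ∃ k : F, k ≠ 0 ∧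
      π w = k • (N (b + w) - N b) := by
    intro w b hw hw0 hb
    have hbw : (b + w) i₀ = 1 := by simp [hb, hw0]
    have hm := h.line b (b + w) w (ne_of_one hb) (ne_of_one hbw) hw
      (Submodule.mem_span_pair.mpr ⟨-1, 1, by simp⟩)
    obtain ⟨s, t, hst⟩ := Submodule.mem_span_pair.mp hm
    have h0 := congrFun hst i₀
    rw [supp_le w i₀ hw hw0] at h0
    simp only [Pi.add_apply, Pi.smul_apply, smul_eq_mul] at h0
    have n1 := supp_ge b i₀ (ne_of_one hb) (by rw [hb]; exact one_ne_zero)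
    have n2 := supp_ge (b + w) i₀ (ne_of_one hbw) (by rw [hbw]; exact one_ne_zero)
    refine ⟨t * π (b + w) i₀, fun hk => ?_, ?_⟩
    · have ht : t = 0 := (mul_eq_zero.mp hk).resolve_right n2
      have hs' : s = 0 := by rw [ht] at h0; simpa [n1] using h0
      exact h.ne_zero w hw (by rw [← hst, hs', ht]; simp)
    · rw [← hst, smul_sub]
      ext i
      simp only [N, Pi.add_apply, Pi.sub_apply, Pi.smul_apply, smul_eq_mul]
      field_simp
      linear_combination (π b i) * h0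
  have mulEq : ∀ i j, i ≠ i₀ → j ≠ i₀ → i ≠ j → ∀ a t β,
      S j (β + a * t) = S j β + S i a * S j t := by
    intro i j hi hj hij
    have main : ∀ (w : ι → F) (b : ι → F), w ≠ 0 → w i₀ = 0 → b i₀ = 1 → b i = 0 →
        ∃ k : F, k ≠ 0 ∧ π w i = k * S i (w i) ∧ π w j = k * (S j (b j + w j) - S j (b j)) := by
      intro w b hw hw0 hb hbi
      obtain ⟨k, hk0, hk⟩ := key2 w b hw hw0 hb
      have hbw : (b + w) i₀ = 1 := by simp [hb, hw0]
      refine ⟨k, hk0, ?_, ?_⟩
      · rw [hk, Pi.smul_apply, Pi.sub_apply, key _ hbw i hi, key _ hb i hi, Pi.add_apply, hbi, zero_add,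
          S0 i hi, sub_zero, smul_eq_mul]
      · rw [hk, Pi.smul_apply, Pi.sub_apply, key _ hbw j hj, key _ hb j hj, Pi.add_apply, smul_eq_mul]
    intro a t β
    by_cases ha : a = 0
    · subst ha; simp [S0 i hi]
    set w : ι → F := Pi.single i 1 + Pi.single j t with hwdef
    have hw : w ≠ 0 := fun h => by simpa [hwdef, hij, hij.symm] using congrFun h i
    have hw0 : w i₀ = 0 := by simp [hwdef, hi.symm, hj.symm]
    obtain ⟨k1, hk1, e1, e2⟩ := main w (Pi.single i₀ 1) hw hw0 (by simp) (by simp [hi])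
    obtain ⟨k2, hk2, e3, e4⟩ := main (a • w) (Pi.single i₀ 1 + Pi.single j β) (smul_ne_zero ha hw)
      (by simp [hw0]) (by simp [hj.symm]) (by simp [hi, hij])
    have hline := h.line w w (a • w) hw hw (smul_ne_zero ha hw)
      (Submodule.smul_mem _ _ (Submodule.subset_span (Or.inl rfl)))
    rw [Set.pair_eq_singleton, Submodule.mem_span_singleton] at hline
    obtain ⟨c, hc⟩ := hline
    have f1 := congrFun hc i
    have f2 := congrFun hc j
    simp only [Pi.smul_apply, smul_eq_mul, e1, e2, e3, e4] at f1 f2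
    simp [hwdef, hij, hij.symm, hj, hi, S0, S1] at f1 f2
    have : k2 * (S j (β + a * t) - S j β) = k2 * (S i a * S j t) := by
      linear_combination (S j t) * f1 - f2
    linear_combination mul_left_cancel₀ hk2 this
  obtain ⟨i₁, hi₁⟩ : ∃ i, i ≠ i₀ := Fintype.exists_ne_of_one_lt_card (by omega) i₀
  have hpair : ∀ i, i ≠ i₀ → ∃ j, j ≠ i₀ ∧ j ≠ i := by
    intro i hi
    by_contra! hc
    have : Finset.univ ⊆ ({i₀, i} : Finset ι) := fun j _ => by
      by_cases hj : j = i₀ <;> simp [hj]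
      exact hc j hj
    have := Finset.card_le_card this
    have h2 := Finset.card_le_two (a := i₀) (b := i)
    rw [Finset.card_univ] at this
    omega
  have hSS : ∀ i j, i ≠ i₀ → j ≠ i₀ → i ≠ j → ∀ a, S j a = S i a := by
    intro i j hi hj hij a
    simpa [S0 j hj, S1 j hj] using mulEq i j hi hj hij a 1 0
  have hS : ∀ i, i ≠ i₀ → ∀ a, S i a = S i₁ a := by
    intro i hi a
    by_cases h' : i₁ = i
    · rw [h']
    · exact hSS i₁ i hi₁ hi h' a
  obtain ⟨i₂, hi₂, h12⟩ := hpair i₁ hi₁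
  let s₀ : F →+* F :=
    { toFun := S i₁
      map_one' := S1 i₁ hi₁
      map_zero' := S0 i₁ hi₁
      map_mul' := fun a t => by
        have := mulEq i₂ i₁ hi₂ hi₁ h12 a t 0
        simpa [S0 i₁ hi₁, hS i₂ hi₂] using this
      map_add' := fun b a => by
        have := mulEq i₂ i₁ hi₂ hi₁ h12 a 1 b
        simpa [S1 i₁ hi₁, hS i₂ hi₂] using this }
  refine ⟨RingEquiv.ofBijective s₀ (Finite.injective_iff_bijective.mp s₀.injective), fun v hv => ?_⟩
  set σ := RingEquiv.ofBijective s₀ (Finite.injective_iff_bijective.mp s₀.injective)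
  have hσ : ∀ i, i ≠ i₀ → ∀ a, S i a = σ a := fun i hi a => hS i hi a
  have hN : ∀ w : ι → F, w i₀ = 1 → N w = σ ∘ w := by
    intro w hw
    ext i
    by_cases hi : i = i₀
    · subst hi; rw [N0 w hw, Function.comp_apply, hw, map_one]
    · rw [key w hw i hi, hσ i hi]; rfl
  by_cases h0 : v i₀ = 0
  · obtain ⟨k, hk0, hk⟩ := key2 v (Pi.single i₀ 1) hv h0 (by simp)
    refine ⟨k, hk0, ?_⟩
    rw [hk, hN _ (by simp [h0]), hN _ (by simp)]
    ext i
    simp
  · set w := (v i₀)⁻¹ • v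
    have hw : w i₀ = 1 := by simp [w, h0]
    have hline := h.line w w v (ne_of_one hw) (ne_of_one hw) hv (by
      have : v = (v i₀) • w := by simp [w, smul_smul, h0]
      rw [Set.pair_eq_singleton, Submodule.mem_span_singleton]; exact ⟨_, this.symm⟩)
    rw [Set.pair_eq_singleton, Submodule.mem_span_singleton] at hline
    obtain ⟨c, hc⟩ := hline
    have hn := supp_ge w i₀ (ne_of_one hw) (by rw [hw]; exact one_ne_zero)
    have hc0 : c ≠ 0 := fun hc0 => h.ne_zero v hv (by rw [← hc, hc0, zero_smul])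
    have hNw := hN w hw
    refine ⟨c * π w i₀ * σ ((v i₀)⁻¹), mul_ne_zero (mul_ne_zero hc0 hn) (by simp [h0]), ?_⟩
    rw [← hc]
    have : π w = (π w i₀) • N w := by simp [N, smul_smul, hn]
    conv_lhs => rw [this, hNw]
    ext i
    simp [w]
    ring

/-- A collineation is semilinear. -/
theorem IsColl.exists_semilinear [Finite F] (h : IsColl π) (hcard : 3 ≤ Fintype.card ι)
    (hsurj : ∀ y, y ≠ 0 → ∃ x, x ≠ 0 ∧ Par (π x) y) :
    ∃ (g : GL ι F) (σ : F ≃+* F), ∀ v, v ≠ 0 →
      Par ((g : Matrix ι ι F) *ᵥ (σ ∘ v)) (π v) := by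
  classical
  obtain ⟨i₀⟩ : Nonempty ι := Fintype.card_pos_iff.mp (by omega)
  have hsingle : ∀ i : ι, (Pi.single i (1 : F) : ι → F) ≠ 0 := by simp
  set b : ι → ι → F := fun i => π (Pi.single i 1)
  have hb : ∀ i, i ≠ i₀ → ∃ s t : F, s ≠ 0 ∧ t ≠ 0 ∧
      π (Pi.single i₀ 1 + Pi.single i 1) = s • b i₀ + t • b i := by
    intro i hi
    set w : ι → F := Pi.single i₀ 1 + Pi.single i 1
    have hw : w ≠ 0 := fun h0 => by simpa [w, hi, hi.symm] using congrFun h0 i
    obtain ⟨s, t, hst⟩ := Submodule.mem_span_pair.mp (h.line _ _ w (hsingle i₀) (hsingle i) hw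
      (add_mem (Submodule.subset_span (Or.inl rfl)) (Submodule.subset_span (Or.inr rfl))))
    refine ⟨s, t, fun hs => ?_, fun ht => ?_, hst.symm⟩
    · subst hs
      rw [zero_smul, zero_add] at hst
      have ht : t ≠ 0 := fun ht => h.ne_zero w hw (by rw [← hst, ht, zero_smul])
      obtain ⟨k, -, hk⟩ := h.inj _ _ (hsingle i) hw ⟨t, ht, hst.symm⟩
      simpa [w, hi, hi.symm] using congrFun hk i₀
    · subst ht
      rw [zero_smul, add_zero] at hst
      have hs : s ≠ 0 := fun hs => h.ne_zero w hw (by rw [← hst, hs, zero_smul])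
      obtain ⟨k, -, hk⟩ := h.inj _ _ (hsingle i₀) hw ⟨s, hs, hst.symm⟩
      simpa [w, hi, hi.symm] using congrFun hk i
  choose s t hs ht hst using hb
  let c : ι → F := fun i => if hi : i = i₀ then 1 else t i hi / s i hi
  have hc : ∀ i, c i ≠ 0 := by
    intro i; by_cases hi : i = i₀ <;> simp [c, hi, hs, ht]
  let M : Matrix ι ι F := Matrix.of fun r i => c i * b i r
  have hM : ∀ i, M *ᵥ Pi.single i 1 = c i • b i := by
    intro i; rw [Matrix.mulVec_single_one]; ext r; simp [M]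
  have hsp : Function.Surjective M.mulVecLin := by
    rw [← LinearMap.range_eq_top, eq_top_iff]
    intro y _
    by_cases hy : y = 0
    · subst hy; exact zero_mem _
    obtain ⟨x, hx, k, -, hk⟩ := hsurj y hy
    rw [hk]
    refine Submodule.smul_mem _ _ ((Submodule.span_le.mpr ?_) (h.map_span'
      (singles Set.univ) singles_ne x hx (mem_span_singles fun j hj => absurd (Set.mem_univ j) hj)))
    rintro _ ⟨a, ⟨j, -, rfl⟩, rfl⟩
    refine ⟨(c j)⁻¹ • Pi.single j 1, ?_⟩
    rw [map_smul, Matrix.mulVecLin_apply, hM, smul_smul, inv_mul_cancel₀ (hc j), one_smul]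
  have hMu : IsUnit M := Matrix.mulVec_surjective_iff_isUnit.mp hsp
  obtain ⟨g, hg⟩ := hMu
  set M' := ((g⁻¹ : GL ι F) : Matrix ι ι F) with hM'def
  have hgM : ∀ x, M' *ᵥ (M *ᵥ x) = x := fun x => by
    rw [Matrix.mulVec_mulVec, hM'def, ← hg, ← Units.val_mul, inv_mul_cancel, Units.val_one, Matrix.one_mulVec]
  have hMg : ∀ x, M *ᵥ (M' *ᵥ x) = x := fun x => by
    rw [Matrix.mulVec_mulVec, hM'def, ← hg, ← Units.val_mul, mul_inv_cancel, Units.val_one, Matrix.one_mulVec]
  have hρ : IsColl (fun v => M' *ᵥ π v) := by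
    refine ⟨fun v hv h0 => h.ne_zero v hv ?_, fun u v w hu hv hw hm => ?_, fun u v hu hv hp => h.inj u v hu hv ?_⟩
    · rw [← hMg (π v), h0, Matrix.mulVec_zero]
    · obtain ⟨p, q, hpq⟩ := Submodule.mem_span_pair.mp (h.line u v w hu hv hw hm)
      exact Submodule.mem_span_pair.mpr ⟨p, q, by
        rw [← hpq, Matrix.mulVec_add, Matrix.mulVec_smul, Matrix.mulVec_smul]⟩
    · obtain ⟨k, hk, he⟩ := hp
      refine ⟨k, hk, ?_⟩
      have := congrArg (M *ᵥ ·) he
      simpa [Matrix.mulVec_smul, hMg] using this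
  obtain ⟨σ, hσ⟩ := hρ.normalised i₀ hcard (fun i => ⟨(c i)⁻¹, inv_ne_zero (hc i), by
      show M' *ᵥ b i = _
      rw [← inv_smul_smul₀ (hc i) (b i), ← hM, Matrix.mulVec_smul, hgM]⟩)
    (fun i hi => ⟨s i hi, hs i hi, by
      show M' *ᵥ π _ = _
      rw [hst i hi]
      have e : s i hi • b i₀ + t i hi • b i = s i hi • (M *ᵥ (Pi.single i₀ 1 + Pi.single i 1)) := by
        rw [Matrix.mulVec_add, hM, hM, smul_add, smul_smul, smul_smul]
        simp [c, hi, mul_div_cancel₀ _ (hs i hi)]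
      rw [e, Matrix.mulVec_smul, hgM]⟩)
  refine ⟨g, σ, fun v hv => ?_⟩
  obtain ⟨k, hk, he⟩ := hσ v hv
  refine ⟨k, hk, ?_⟩
  rw [hg, ← Matrix.mulVec_smul, ← he, hMg]

end Cfsg.Agent.AutPSp
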