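import Cfsg.Agent.Lib.FieldAut.Symplectic
import Cfsg.Agent.Lib.AutPSp.Collineation

/-!
# Transvection classes in PSp
* `pr`, `tv`, `TP v c` : the class of `x ↦ x + c f(x,v) v`; `TP_par`, `TP_inj`, `TP_comm_iff`, `conj_TP`
* `mem_span_of_perp`, `par_of_perp`
-/

set_option autoImplicit false

open Matrix

namespace Cfsg.Agent.AutPSp

variable {m : ℕ} {F : Type*} [Field F]

local notation "V" => (Fin m ⊕ Fin m → F)
local notation "f" => Cfsg.sympForm m F
local notation "Sp" => Matrix.symplecticGroup (Fin m) F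

/-- The class map. -/
def pr (m : ℕ) (F : Type*) [Field F] : Matrix.symplecticGroup (Fin m) F →* Cfsg.PSp m F :=
  QuotientGroup.mk' _

theorem pr_surjective : Function.Surjective (pr m F) := QuotientGroup.mk'_surjective _

theorem pr_eq_iff {g h : Sp} : pr m F g = pr m F h ↔ h.1 = g.1 ∨ h.1 = -g.1 := by
  rw [pr, QuotientGroup.mk'_eq_mk']
  constructor
  · rintro ⟨z, hz, rfl⟩
    rcases GLOrder.center_Sp.1 hz with h1 | h1 <;> simp [Submonoid.coe_mul, h1]
  · intro h1
    refine ⟨g⁻¹ * h, GLOrder.center_Sp.2 ?_, mul_inv_cancel_left g h⟩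
    have e : ((g⁻¹ : Sp) : Matrix (Fin m ⊕ Fin m) (Fin m ⊕ Fin m) F) * g.1 = 1 := by
      rw [← Submonoid.coe_mul, inv_mul_cancel, Submonoid.coe_one]
    rcases h1 with h1 | h1 <;> simp [Submonoid.coe_mul, h1, e]

theorem sp_ext {g h : Sp} (H : ∀ x : V, g.1 *ᵥ x = h.1 *ᵥ x) : g = h :=
  Subtype.ext (Matrix.mulVec_injective (funext H))

theorem sp_ne {g : Sp} {v : V} (hv : v ≠ 0) : g.1 *ᵥ v ≠ 0 := by
  intro h
  apply hv
  have := congrArg (fun x => ((g⁻¹ : Sp) : Matrix (Fin m ⊕ Fin m) (Fin m ⊕ Fin m) F) *ᵥ x) h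
  simpa [Matrix.mulVec_mulVec, ← Submonoid.coe_mul] using this

theorem sp_form (g : Sp) (u v : V) : f (g.1 *ᵥ u) (g.1 *ᵥ v) = f u v :=
  Linear.mem_symplecticGroup_iff.1 g.2 u v

theorem sp_inv_mulVec (g : Sp) (x : V) :
    ((g⁻¹ : Sp) : Matrix (Fin m ⊕ Fin m) (Fin m ⊕ Fin m) F) *ᵥ (g.1 *ᵥ x) = x := by
  rw [Matrix.mulVec_mulVec, ← Submonoid.coe_mul, inv_mul_cancel, Submonoid.coe_one, Matrix.one_mulVec]

theorem sp_mulVec_inv (g : Sp) (x : V) :
    g.1 *ᵥ (((g⁻¹ : Sp) : Matrix (Fin m ⊕ Fin m) (Fin m ⊕ Fin m) F) *ᵥ x) = x := by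
  rw [Matrix.mulVec_mulVec, ← Submonoid.coe_mul, mul_inv_cancel, Submonoid.coe_one, Matrix.one_mulVec]

/-- The transvection `x ↦ x + c f(x,v) v`. -/
noncomputable def tv (v : V) (c : F) : Sp :=
  ⟨Cfsg.sympTransvection m v c, Linear.sympTransvection_mem v c⟩

theorem tv_mulVec (v : V) (c : F) (x : V) : (tv v c).1 *ᵥ x = x + (c * f x v) • v :=
  Linear.sympTransvection_mulVec v c x

theorem tv_conj (g : Sp) (v : V) (c : F) : g * tv v c * g⁻¹ = tv (g.1 *ᵥ v) c := by
  refine sp_ext fun x => ?_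
  rw [Submonoid.coe_mul, Submonoid.coe_mul, ← Matrix.mulVec_mulVec, ← Matrix.mulVec_mulVec, tv_mulVec,
    tv_mulVec, Matrix.mulVec_add, Matrix.mulVec_smul, sp_mulVec_inv]
  congr 3
  conv_rhs => rw [← sp_mulVec_inv g x]
  rw [sp_form]

theorem tv_smul (a : F) (v : V) (c : F) : tv (a • v) c = tv v (a ^ 2 * c) :=
  sp_ext fun x => by simp only [tv_mulVec, Linear.sympForm_smul_right]; module

theorem tv_zero (v : V) : tv v (0 : F) = 1 := sp_ext fun x => by simp [tv_mulVec]

/-- The class of a transvection. -/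
noncomputable def TP (v : V) (c : F) : Cfsg.PSp m F := pr m F (tv v c)

theorem conj_TP (g : Sp) (v : V) (c : F) :
    pr m F g * TP v c * (pr m F g)⁻¹ = TP (g.1 *ᵥ v) c := by
  rw [TP, TP, ← map_inv, ← map_mul, ← map_mul, tv_conj]

theorem TP_smul (a : F) (v : V) (c : F) : TP (a • v) c = TP v (a ^ 2 * c) := by rw [TP, TP, tv_smul]

/-- Vectors orthogonal to everything orthogonal to `u` and `v` lie in their span. -/
theorem mem_span_of_perp {u v w : V} (h : ∀ z, f z u = 0 → f z v = 0 → f z w = 0) :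
    w ∈ Submodule.span F {u, v} := by
  by_contra hw
  obtain ⟨φ, hφ, hker⟩ := Submodule.exists_dual_map_eq_bot_of_notMem hw inferInstance
  let Ψ : V →ₗ[F] Module.Dual F V :=
    { toFun := fun z =>
        { toFun := fun x => f z x
          map_add' := fun a b => Linear.sympForm_add_right z a b
          map_smul' := fun c a => Linear.sympForm_smul_right c z a }
      map_add' := fun a b => LinearMap.ext fun x => Linear.sympForm_add_left a b x
      map_smul' := fun c a => LinearMap.ext fun x => Linear.sympForm_smul_left c a x }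
  have hinj : Function.Injective Ψ := by
    rw [← LinearMap.ker_eq_bot, LinearMap.ker_eq_bot']
    intro z hz
    by_contra hz0
    obtain ⟨x, hx⟩ := Linear.exists_sympForm_ne_zero hz0
    exact hx (LinearMap.congr_fun hz x)
  obtain ⟨z, hz⟩ := (LinearMap.injective_iff_surjective_of_finrank_eq_finrank
    Subspace.dual_finrank_eq.symm).mp hinj φ
  have hk : ∀ a ∈ ({u, v} : Set V), φ a = 0 := fun a ha => by
    have hm : φ a ∈ Submodule.map φ (Submodule.span F {u, v}) := ⟨a, Submodule.subset_span ha, rfl⟩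
    rw [hker] at hm
    exact (Submodule.mem_bot F).mp hm
  refine hφ ?_
  rw [← hz]
  exact h z (by have := hk u (Or.inl rfl); rwa [← hz] at this) (by have := hk v (Or.inr rfl); rwa [← hz] at this)

theorem par_of_perp {v w : V} (_hv : v ≠ 0) (hw : w ≠ 0) (h : ∀ z, f z v = 0 → f z w = 0) : Par v w := by
  obtain ⟨a, b, hab⟩ := Submodule.mem_span_pair.mp (mem_span_of_perp (u := v) (v := v) fun z h1 _ => h z h1)
  rw [← add_smul] at hab
  exact ⟨a + b, fun h0 => hw (by rw [← hab, h0, zero_smul]), hab.symm⟩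

theorem TP_inj {v : V} {c c' : F} (hv : v ≠ 0) (h : TP v c = TP v c') : c = c' := by
  obtain ⟨x, hx⟩ := Linear.exists_sympForm_ne_zero hv
  rw [Linear.sympForm_swap, neg_ne_zero] at hx
  rcases pr_eq_iff.mp h with h1 | h1
  · have := congrArg (fun M => M *ᵥ x) h1
    simp only [tv_mulVec, add_right_inj] at this
    exact (mul_right_cancel₀ hx (smul_left_injective F hv this)).symm
  · have e := congrArg (fun M => M *ᵥ v) h1
    simp only [Matrix.neg_mulVec, tv_mulVec, Linear.sympForm_self, mul_zero, zero_smul, add_zero] at e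
    have := congrArg (fun M => M *ᵥ x) h1
    have hneg : (-1 : F) = 1 := by
      by_contra hne
      have : ((1 : F) - -1) • v = 0 := by rw [sub_smul, one_smul, neg_smul, one_smul, ← e, sub_self]
      exact hv ((smul_eq_zero.mp this).resolve_left (sub_ne_zero.mpr (Ne.symm hne)))
    simp only [Matrix.neg_mulVec, tv_mulVec] at this
    rw [← neg_one_smul F (x + _), hneg, one_smul, add_right_inj] at this
    exact (mul_right_cancel₀ hx (smul_left_injective F hv this)).symm

theorem TP_par {v v' : V} {c c' : F} (hv : v ≠ 0) (hv' : v' ≠ 0) (hc : c ≠ 0)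
    (h : TP v c = TP v' c') : Par v v' := by
  by_contra hp
  obtain ⟨x, hx, hx'⟩ := Linear.exists_orth_not_orth (u := v') (v := v) hv' fun a ha =>
    hp (Par.symm ⟨a, fun h0 => hv (by rw [← ha, h0, zero_smul]), ha.symm⟩)
  rw [Linear.sympForm_swap, neg_eq_zero] at hx
  rw [Linear.sympForm_swap, neg_ne_zero] at hx'
  obtain ⟨ε, hε⟩ : ∃ ε : F, (tv v' c').1 = ε • (tv v c).1 := by
    rcases pr_eq_iff.mp h with h1 | h1
    · exact ⟨1, by rw [h1, one_smul]⟩
    · exact ⟨-1, by rw [h1, neg_one_smul]⟩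
  have e := congrArg (fun M => M *ᵥ x) hε
  simp only [Matrix.smul_mulVec, tv_mulVec, hx, mul_zero, zero_smul, add_zero] at e
  have e2 := congrArg (fun y => f y v) e
  simp only [Linear.sympForm_smul_left, Linear.sympForm_add_left, Linear.sympForm_self, mul_zero, add_zero] at e2
  have hε1 : ε = 1 := by
    have : (ε - 1) * f x v = 0 := by linear_combination -e2
    exact sub_eq_zero.mp ((mul_eq_zero.mp this).resolve_right hx')
  subst hε1
  simp [hv, hc, hx'] at e

theorem TP_zero (v : V) : TP v (0 : F) = 1 := by rw [TP, tv_zero, map_one]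

theorem TP_ne_one {v : V} {c : F} (hv : v ≠ 0) (hc : c ≠ 0) : TP v c ≠ 1 := fun h =>
  hc (TP_inj hv (h.trans (TP_zero v).symm))

theorem TP_comm_iff {u v : V} {a b : F} (hu : u ≠ 0) (hv : v ≠ 0) (ha : a ≠ 0) (hb : b ≠ 0) :
    Commute (TP u a) (TP v b) ↔ f u v = 0 := by
  constructor
  · intro hc
    have h1 : TP ((tv u a).1 *ᵥ v) b = TP v b := by
      rw [← conj_TP]
      exact mul_inv_eq_of_eq_mul hc.eq
    obtain ⟨k, -, hk⟩ := TP_par (sp_ne hv) hv hb h1
    rw [tv_mulVec] at hk
    by_contra h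
    have hvu : f v u ≠ 0 := by rwa [Linear.sympForm_swap, neg_ne_zero]
    have hk0 := congrArg (fun y => f y u) hk
    simp only [Linear.sympForm_smul_left, Linear.sympForm_add_left, Linear.sympForm_self, mul_zero, add_zero] at hk0
    have hk1 : k = 1 := by
      have : (k - 1) * f v u = 0 := by linear_combination -hk0
      exact sub_eq_zero.mp ((mul_eq_zero.mp this).resolve_right hvu)
    subst hk1
    simp [hu, ha, hvu] at hk
  · intro h
    have e : (tv u a).1 *ᵥ v = v := by
      rw [tv_mulVec, Linear.sympForm_swap, h]; simp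
    have := conj_TP (tv u a) v b
    rw [e] at this
    exact mul_inv_eq_iff_eq_mul.mp this

end Cfsg.Agent.AutPSp
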