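import Cfsg.Agent.Lib.AutPSp.Main

/-!
# Elements of PSp central in a Sylow p-subgroup, and invariance of the transvection classes
* `centralises_W` : an element centralising the unitriangular p-group is a transvection or has rank two (char 2)
* `transPres_all` : for `m ≥ 3` or odd `p`, every automorphism permutes transvection classes
-/

set_option autoImplicit false

open Matrix

namespace Cfsg.Agent.AutPSp

variable {m : ℕ} {F : Type*} [Field F]

local notation "V" => (Fin m ⊕ Fin m → F)
local notation "f" => Cfsg.sympForm m F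
local notation "Sp" => Matrix.symplecticGroup (Fin m) F
local notation "PG" => Cfsg.PSp m F
local notation "ee" i => (Pi.single (Sum.inl i) 1 : Fin m ⊕ Fin m → F)
local notation "dd" i => (Pi.single (Sum.inr i) 1 : Fin m ⊕ Fin m → F)

theorem f_ee (i : Fin m) (x : V) : f x (ee i) = x (Sum.inr i) := by
  rw [Linear.sympForm_swap, Linear.sympForm_single_inl_left, neg_neg]

theorem f_dd (i : Fin m) (x : V) : f x (dd i) = - x (Sum.inl i) := by
  rw [Linear.sympForm_swap, Linear.sympForm_single_inr_left]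

/-- The rank used for unitriangularity. -/
def rk (m : ℕ) : Fin m ⊕ Fin m → ℕ :=
  Sum.elim (fun i => i.1) (fun i => 2 * m - 1 - i.1)

theorem rk_injective : Function.Injective (rk m) := by
  rintro (a | a) (b | b) h <;> simp [rk] at h <;> first | (congr 1; exact Fin.ext (by omega)) | omega

theorem rk_lt (a : Fin m ⊕ Fin m) : rk m a < 2 * m := by
  rcases a with a | a <;> simp [rk] <;> omega

/-- `A - 1` is strictly upper triangular for `rk`. -/
def Uni (A : Matrix (Fin m ⊕ Fin m) (Fin m ⊕ Fin m) F) : Prop :=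
  ∀ a b, rk m b ≤ rk m a → (A - 1) a b = 0

theorem uni_mul {A B : Matrix (Fin m ⊕ Fin m) (Fin m ⊕ Fin m) F} (hA : Uni A) (hB : Uni B) : Uni (A * B) := by
  intro a b hab
  have e : A * B - 1 = (A - 1) * (B - 1) + (A - 1) + (B - 1) := by noncomm_ring
  rw [e, Matrix.add_apply, Matrix.add_apply, hA a b hab, hB a b hab, add_zero, add_zero, Matrix.mul_apply]
  refine Finset.sum_eq_zero fun j _ => ?_
  rcases le_or_gt (rk m j) (rk m a) with h | h
  · rw [hA a j h, zero_mul]
  · rw [hB j b (by omega), mul_zero]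

theorem uni_nil {A : Matrix (Fin m ⊕ Fin m) (Fin m ⊕ Fin m) F} (hA : Uni A) : (A - 1) ^ (2 * m) = 0 := by
  have key : ∀ k a b, rk m b < rk m a + k → ((A - 1) ^ k) a b = 0 := by
    intro k
    induction k with
    | zero =>
      intro a b h
      rw [pow_zero, Matrix.one_apply_ne (fun e => by subst e; omega)]
    | succ k ih =>
      intro a b h
      rw [pow_succ, Matrix.mul_apply]
      refine Finset.sum_eq_zero fun j _ => ?_
      by_cases h' : rk m j < rk m a + k
      · rw [ih a j h', zero_mul]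
      · rw [hA j b (by omega), mul_zero]
  ext a b
  exact key _ a b (by have := rk_lt b; omega)

/-- The unitriangular subgroup. -/
def upperW (m : ℕ) (F : Type*) [Field F] [Finite F] : Subgroup (Matrix.symplecticGroup (Fin m) F) :=
  { carrier := {g | Uni g.1}
    one_mem' := fun a b _ => by simp
    mul_mem' := fun {a b} ha hb => by
      show Uni (a * b : Matrix.symplecticGroup (Fin m) F).1
      rw [Submonoid.coe_mul]; exact uni_mul ha hb
    inv_mem' := by
      intro s hs
      obtain ⟨a, ha⟩ : ∃ a : ℕ, orderOf s = a + 1 := ⟨orderOf s - 1, by have := orderOf_pos s; omega⟩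
      have e : s⁻¹ = s ^ a := inv_eq_of_mul_eq_one_right (by rw [← pow_succ', ← ha, pow_orderOf_eq_one])
      rw [e]
      clear e ha
      induction a with
      | zero => exact fun x y _ => by simp
      | succ a ih =>
        show Uni (s ^ (a + 1) : Matrix.symplecticGroup (Fin m) F).1
        rw [pow_succ, Submonoid.coe_mul]; exact uni_mul ih hs }

theorem mem_upperW [Finite F] {g : Sp} : g ∈ upperW m F ↔ Uni g.1 := Iff.rfl

theorem isPGroup_upperW [Finite F] (p : ℕ) [Fact p.Prime] [CharP F p] (hm : 0 < m) : IsPGroup p (upperW m F) := by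
  have : Nonempty (Fin m ⊕ Fin m) := ⟨.inl ⟨0, hm⟩⟩
  intro g
  refine ⟨2 * m, Subtype.ext (Subtype.ext ?_)⟩
  have h := uni_nil g.2
  have h2 : ((g : Sp).1 - 1) ^ p ^ (2 * m) = 0 :=
    pow_eq_zero_of_le (Nat.lt_pow_self (Nat.Prime.one_lt (Fact.out : p.Prime))).le h
  rw [sub_pow_char_pow_of_commute p _ (Commute.one_right _), one_pow, sub_eq_zero] at h2
  rw [Subgroup.coe_pow, SubmonoidClass.coe_pow, h2]
  rfl

theorem tv_mem_upperW [Finite F] (v : V) (hv : ∀ i, v (Sum.inr i) = 0) (c : F) : tv v c ∈ upperW m F := by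
  intro a b hab
  have e := congrFun (tv_mulVec v c (Pi.single b 1)) a
  rw [Matrix.mulVec_single_one] at e
  simp only [Matrix.col_apply, Pi.add_apply, Pi.smul_apply, smul_eq_mul] at e
  rw [Matrix.sub_apply, e, Matrix.one_apply, Pi.single_apply, add_sub_cancel_left]
  rcases a with i | i
  · rcases b with j | j
    · rw [Linear.sympForm_single_inl_left, hv]; simp
    · simp [rk] at hab; omega
  · rw [hv]; simp

/-- The short root element. -/
noncomputable def levi (i j : Fin m) : Matrix.symplecticGroup (Fin m) F :=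
  tv ((ee i) + (dd j)) 1 * tv (ee i) (-1) * tv (dd j) (-1)

theorem levi_mulVec {i j : Fin m} (hij : i ≠ j) (x : V) :
    (levi (F := F) i j).1 *ᵥ x = x + (x (Sum.inr i)) • (dd j) - (x (Sum.inl j)) • (ee i) := by
  rw [levi, Submonoid.coe_mul, Submonoid.coe_mul, ← Matrix.mulVec_mulVec, ← Matrix.mulVec_mulVec]
  simp only [tv_mulVec, Linear.sympForm_add_left, Linear.sympForm_add_right, Linear.sympForm_smul_left,
    Linear.sympForm_neg_left, f_ee, f_dd]
  simp only [Pi.add_apply, Pi.smul_apply, smul_eq_mul]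
  simp [hij, hij.symm]
  module

theorem levi_mem [Finite F] {i j : Fin m} (hij : i < j) : levi (F := F) i j ∈ upperW m F := by
  intro a b hab
  have e := congrFun (levi_mulVec (F := F) hij.ne (Pi.single b 1)) a
  rw [Matrix.mulVec_single_one] at e
  simp only [Matrix.col_apply, Pi.add_apply, Pi.sub_apply, Pi.smul_apply, smul_eq_mul] at e
  rw [Matrix.sub_apply, e, Matrix.one_apply, Pi.single_apply]
  rcases a with a | a <;> rcases b with b | b <;> simp [Pi.single_apply, rk] at hab ⊢ <;>
    (intros; subst_vars; omega)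

theorem pr_neg {s : Sp} {a : F} (ha : a = 1 ∨ a = -1) : ∃ t : Sp, t.1 = a • s.1 ∧ pr m F t = pr m F s := by
  have hmem : a • s.1 ∈ Matrix.symplecticGroup (Fin m) F := by
    refine Linear.mem_symplecticGroup_iff.2 fun u v => ?_
    simp only [Matrix.smul_mulVec, Linear.sympForm_smul_left, Linear.sympForm_smul_right, sp_form]
    rcases ha with rfl | rfl <;> ring
  refine ⟨⟨_, hmem⟩, rfl, pr_eq_iff.mpr ?_⟩
  rcases ha with rfl | rfl <;> simp

/-- An element centralising the unitriangular group is a transvection or of rank two. -/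
theorem centralises_W [Finite F] (hm : 2 ≤ m) {x : PG}
    (hx : ∀ w ∈ upperW m F, pr m F w * x = x * pr m F w) :
    (∃ c : F, x = TP (ee (⟨0, by omega⟩ : Fin m)) c) ∨
    ((2 : F) = 0 ∧ ∃ (s : Sp) (A B : F), pr m F s = x ∧ B ≠ 0 ∧
      (∀ y : V, (s.1 - 1) *ᵥ y =
        (y (Sum.inr (⟨0, by omega⟩ : Fin m)) * A + y (Sum.inr (⟨1, by omega⟩ : Fin m)) * B) • (ee (⟨0, by omega⟩ : Fin m)) +
          (y (Sum.inr (⟨0, by omega⟩ : Fin m)) * B) • (ee (⟨1, by omega⟩ : Fin m))) ∧
      (s.1 - 1) *ᵥ (dd (⟨0, by omega⟩ : Fin m)) =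
        A • (ee (⟨0, by omega⟩ : Fin m)) + B • (ee (⟨1, by omega⟩ : Fin m)) ∧
      (s.1 - 1) *ᵥ (dd (⟨1, by omega⟩ : Fin m)) = B • (ee (⟨0, by omega⟩ : Fin m))) := by
  classical
  obtain ⟨s₁, rfl⟩ := pr_surjective x
  have heig : ∀ v : V, (∀ i, v (Sum.inr i) = 0) → v ≠ 0 →
      ∃ a : F, (a = 1 ∨ a = -1) ∧ s₁.1 *ᵥ v = a • v := by
    intro v hv hv0
    have h1 : TP (s₁.1 *ᵥ v) 1 = TP v 1 := by
      rw [← conj_TP]
      exact mul_inv_eq_iff_eq_mul.mpr (hx _ (tv_mem_upperW v hv 1)).symm
    obtain ⟨a, ha, hav⟩ := (TP_par (sp_ne hv0) hv0 one_ne_zero h1).symm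
    refine ⟨a, ?_, hav⟩
    rw [hav, TP_smul] at h1
    have := TP_inj hv0 h1
    rw [mul_one, pow_two, mul_self_eq_one_iff] at this
    exact this
  have hb : ∀ i, ∃ a : F, (a = 1 ∨ a = -1) ∧ s₁.1 *ᵥ (ee i) = a • (ee i) := fun i =>
    heig _ (fun j => by simp) (by simp)
  choose a ha hae using hb
  set i0 : Fin m := ⟨0, by omega⟩ with hi0
  set i1 : Fin m := ⟨1, by omega⟩ with hi1
  have hconst : ∀ i, a i = a i0 := by
    intro i
    by_cases hi : i = i0
    · rw [hi]
    obtain ⟨b, -, hb⟩ := heig ((ee i) + (ee i0)) (fun j => by simp) (fun h => by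
      simpa [hi] using congrFun h (Sum.inl i))
    rw [Matrix.mulVec_add, hae, hae] at hb
    have e1 := congrFun hb (Sum.inl i)
    have e2 := congrFun hb (Sum.inl i0)
    simp [hi, Ne.symm hi] at e1 e2
    rw [e1, e2]
  obtain ⟨s, hs, hsx⟩ := pr_neg (s := s₁) (ha i0)
  rw [← hsx] at hx ⊢
  have hse : ∀ i, s.1 *ᵥ (ee i) = ee i := by
    intro i
    rw [hs, Matrix.smul_mulVec, hae, hconst i, smul_smul]
    rcases ha i0 with h | h <;> rw [h] <;> simp
  set S : Fin m → Fin m → F := fun l k => (s.1 *ᵥ (dd k)) (Sum.inl l) with hSdef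
  have hsd : ∀ k l, (s.1 *ᵥ (dd k)) (Sum.inr l) = (dd k) (Sum.inr l) := by
    intro k l
    have := sp_form s (dd k) (ee l)
    rwa [hse, f_ee, f_ee] at this
  have hsym : ∀ k l, S k l = S l k := by
    intro k l
    have := sp_form s (dd k) (dd l)
    rw [Linear.sympForm_eq_sum, f_dd] at this
    simp only [hsd] at this
    simp [Pi.single_apply, Finset.sum_sub_distrib] at this
    show (s.1 *ᵥ (dd l)) (Sum.inl k) = (s.1 *ᵥ (dd k)) (Sum.inl l)
    simp only [Matrix.mulVec_single_one, Matrix.col_apply]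
    linear_combination this
  have hcomm : ∀ i j : Fin m, i < j → ∀ l k : Fin m,
      (if k = i then S l j else 0) + (if l = i then S j k else 0) = 0 := by
    intro i j hij l k
    have hc := hx _ (levi_mem (F := F) hij)
    rw [← map_mul, ← map_mul] at hc
    have hu : levi i j * s = s * levi i j := by
      rcases pr_eq_iff.mp hc with h | h
      · exact Subtype.ext h.symm
      · have e := congrArg (fun M => M *ᵥ (ee i)) h
        simp only [Matrix.neg_mulVec, Submonoid.coe_mul, ← Matrix.mulVec_mulVec, hse, levi_mulVec hij.ne] at e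
        simp [hij.ne', hse] at e
        have e' := congrFun e (Sum.inl i)
        simp at e'
        refine Subtype.ext ?_
        rw [h, ← neg_one_smul F]
        rw [← e', one_smul]
    have e := congrFun (congrArg (fun g : Sp => g.1 *ᵥ (dd k)) hu) (Sum.inl l)
    simp only [Submonoid.coe_mul, ← Matrix.mulVec_mulVec, levi_mulVec hij.ne, Matrix.mulVec_add,
      Matrix.mulVec_sub, Matrix.mulVec_smul, hse, Pi.add_apply, Pi.sub_apply, Pi.smul_apply, smul_eq_mul,
      hsd] at e
    simp [Pi.single_apply, hij.ne] at e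
    show (if k = i then (s.1 *ᵥ (dd j)) (Sum.inl l) else 0) +
      (if l = i then (s.1 *ᵥ (dd k)) (Sum.inl j) else 0) = 0
    by_cases h1 : k = i <;> by_cases h2 : l = i <;> simp [h1, h2, Ne.symm] at e ⊢ <;>
      simp [h1, h2, eq_comm] at e <;> first | linear_combination e | linear_combination -e
  have hzero : ∀ j k : Fin m, j ≠ i0 → (k ≠ i0 ∨ j ≠ i1) → S j k = 0 := by
    intro j k hj hk
    have h0j : i0 < j := Fin.mk_lt_of_lt_val (Nat.pos_of_ne_zero fun h => hj (Fin.ext h))
    by_cases hk0 : k = i0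
    · have h1j : i1 < j := by
        have h1 : j.1 ≠ 1 := fun h => (hk.resolve_left (not_not.mpr hk0)) (Fin.ext h)
        have h2 : j.1 ≠ 0 := fun h => hj (Fin.ext h)
        show 1 < j.1
        omega
      have := hcomm i1 j h1j i1 k
      subst hk0
      simpa [hi0, hi1] using this
    · simpa [hk0] using hcomm i0 j h0j i0 k
  have h01 : i0 < i1 := Fin.mk_lt_mk.mpr Nat.one_pos
  have hB2 : (2 : F) * S i0 i1 = 0 := by
    have := hcomm i0 i1 h01 i0 i0
    simp only [if_true, hsym i1 i0] at this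
    linear_combination this
  have hexp : ∀ y : V, (s.1 - 1) *ᵥ y =
      (y (Sum.inr i0) * S i0 i0 + y (Sum.inr i1) * S i0 i1) • (ee i0) + (y (Sum.inr i0) * S i0 i1) • (ee i1) := by
    intro y
    have hcol : ∀ l k, (s.1 - 1) l (Sum.inl k) = 0 := by
      intro l k
      have := congrFun (hse k) l
      rw [Matrix.mulVec_single_one] at this
      simp [Matrix.sub_apply, Matrix.one_apply] at this ⊢
      rw [this, Pi.single_apply]; simp
    have hcolr : ∀ l k, (s.1 - 1) (Sum.inr l) (Sum.inr k) = 0 := by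
      intro l k
      have := hsd k l
      rw [Matrix.mulVec_single_one] at this
      simp [Matrix.sub_apply, Matrix.one_apply] at this ⊢
      rw [this, Pi.single_apply]; simp
    have hcoll : ∀ l k, (s.1 - 1) (Sum.inl l) (Sum.inr k) = S l k := by
      intro l k
      simp [hSdef, Matrix.sub_apply, Matrix.mulVec_single_one]
    ext a
    rw [Matrix.mulVec, dotProduct, Fintype.sum_sum_type]
    simp only [hcol, zero_mul, Finset.sum_const_zero, zero_add]
    rcases a with l | l
    · simp only [hcoll, Pi.add_apply, Pi.smul_apply, smul_eq_mul]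
      have hsub : ∑ k, S l k * y (Sum.inr k) = S l i0 * y (Sum.inr i0) + S l i1 * y (Sum.inr i1) := by
        refine Finset.sum_eq_add_of_mem i0 i1 (Finset.mem_univ _) (Finset.mem_univ _) h01.ne fun k _ hk => ?_
        rw [hsym, hzero k l hk.1 (Or.inr hk.2), zero_mul]
      rw [hsub]
      by_cases hl0 : l = i0
      · subst hl0; simp [h01.ne, Pi.single_apply]; ring
      by_cases hl1 : l = i1
      · subst hl1
        rw [hzero i1 i1 hl0 (Or.inl hl0)]
        simp [Pi.single_apply, h01.ne', hsym i1 i0]; ring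
      rw [hzero l i0 hl0 (Or.inr hl1), hzero l i1 hl0 (Or.inr hl1)]
      simp [Pi.single_apply, hl0, hl1]
    · simp [hcolr]
  by_cases hB : S i0 i1 = 0
  · left
    refine ⟨S i0 i0, congrArg (pr m F) (sp_ext fun y => ?_)⟩
    have := hexp y
    rw [Matrix.sub_mulVec, Matrix.one_mulVec, hB, sub_eq_iff_eq_add] at this
    rw [tv_mulVec, f_ee, this]
    simp [mul_comm, add_comm]
  · right
    refine ⟨(mul_eq_zero.mp hB2).resolve_right hB, s, S i0 i0, S i0 i1, rfl, hB, hexp, ?_, ?_⟩
    · rw [hexp]; simp [h01.ne, h01.ne']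
    · rw [hexp]; simp [h01.ne, h01.ne']

end Cfsg.Agent.AutPSp
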