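import Cfsg.Agent.Lib.AutPSp.Invariance

/-!
# The number of semilinear automorphisms of PSp
* `semiAut_eq_iff`, `semiSet`, `card_semiSet_mul`, `semiAut_mem_inn_of_refl`
-/

set_option autoImplicit false

open Matrix

namespace Cfsg.Agent.AutPSp

variable {m : ℕ} {F : Type*} [Field F]

local notation "V" => (Fin m ⊕ Fin m → F)
local notation "f" => Cfsg.sympForm m F
local notation "Sp" => Matrix.symplecticGroup (Fin m) F
local notation "PG" => Cfsg.PSp m F
local notation "GLm" => GL (Fin m ⊕ Fin m) F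

theorem exists_multiplier {g : GLm} (hg : g ∈ Cfsg.GSp m F) :
    ∃ l : F, l ≠ 0 ∧ ∀ u v : V, f (g.1 *ᵥ u) (g.1 *ᵥ v) = l * f u v := by
  obtain ⟨c, hc⟩ := hg
  exact ⟨c, c.ne_zero, hc⟩

/-- Only scalars and the identity map fix every point semilinearly. -/
theorem semilinear_trivial (hm : 0 < m) {k : GLm} {τ : F ≃+* F}
    (h : ∀ v : V, v ≠ 0 → Par v (k.1 *ᵥ (τ ∘ v))) : τ = RingEquiv.refl F ∧ k ∈ Cfsg.Geo.scalars _ F := by
  classical
  have hτ : ∀ (a : Fin m ⊕ Fin m) (c : F), τ ∘ (Pi.single a c : V) = Pi.single a (τ c) := by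
    intro a c; funext b; simp [Pi.single_apply, apply_ite τ]
  have hcol : ∀ a, ∃ d : F, d ≠ 0 ∧ k.1 *ᵥ (Pi.single a 1 : V) = d • (Pi.single a 1 : V) := by
    intro a
    obtain ⟨d, hd, e⟩ := h (Pi.single a 1) (by simp)
    rw [hτ, map_one] at e
    exact ⟨d, hd, e⟩
  choose d hd0 hd using hcol
  have rel : ∀ a b, a ≠ b → ∀ c : F, τ c * d b = d a * c := by
    intro a b hab c
    obtain ⟨e, -, he⟩ := h (Pi.single a 1 + Pi.single b c) (fun h0 => by
      simpa [hab] using congrFun h0 a)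
    have e1 : τ ∘ (Pi.single a 1 + Pi.single b c : V) = Pi.single a 1 + τ c • Pi.single b 1 := by
      funext x; simp [Pi.single_apply, apply_ite τ]
    rw [e1, Matrix.mulVec_add, Matrix.mulVec_smul, hd, hd] at he
    have c1 := congrFun he a
    have c2 := congrFun he b
    simp [hab, hab.symm] at c1 c2
    rw [c2, c1]
  set a0 : Fin m ⊕ Fin m := Sum.inl ⟨0, hm⟩
  set b0 : Fin m ⊕ Fin m := Sum.inr ⟨0, hm⟩
  have hconst : ∀ a, d a = d a0 := by
    intro a
    by_cases ha : a = a0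
    · rw [ha]
    · simpa using rel a0 a (Ne.symm ha) 1
  have hτ1 : τ = RingEquiv.refl F := by
    refine RingEquiv.ext fun c => ?_
    have := rel a0 b0 (by simp [a0, b0]) c
    rw [hconst b0, mul_comm] at this
    exact mul_left_cancel₀ (hd0 a0) this
  refine ⟨hτ1, ⟨Units.mk0 (d a0) (hd0 a0), Units.ext ?_⟩⟩
  ext x y
  have := congrFun (hd y) x
  rw [Matrix.mulVec_single_one, hconst] at this
  simp only [Matrix.col_apply, Pi.smul_apply, smul_eq_mul] at this
  rw [this]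
  by_cases hxy : x = y <;> simp [hxy, Pi.single_apply]

theorem semiAut_eq_iff (hm : 0 < m) {g g' : GLm} (hg : g ∈ Cfsg.GSp m F) (hg' : g' ∈ Cfsg.GSp m F)
    (σ σ' : F ≃+* F) :
    semiAut hg σ = semiAut hg' σ' ↔ σ = σ' ∧ ∃ a : Fˣ, g' = FieldAut.scal a * g := by
  constructor
  · intro he
    obtain ⟨l, hl, hlf⟩ := exists_multiplier hg
    obtain ⟨l', hl', hlf'⟩ := exists_multiplier hg'
    have hp : ∀ w : V, w ≠ 0 → Par w ((g⁻¹ * g' : GLm).1 *ᵥ ((σ.symm.trans σ') ∘ w)) := by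
      intro w hw
      obtain ⟨v, rfl⟩ := galois_surj σ w
      have hv : v ≠ 0 := fun h => hw (by funext i; simp [h])
      have e := congrArg (fun (α : MulAut PG) => α (TP v 1)) he
      simp only [semiAut, semi_TP σ hg hlf hl, semi_TP σ' hg' hlf' hl'] at e
      obtain ⟨k, hk, ek⟩ := TP_par (gl_ne g (galois_ne σ hv)) (gl_ne g' (galois_ne σ' hv))
        (by simp [hl]) e
      refine ⟨k, hk, ?_⟩
      have e' : ((σ.symm.trans σ') : F → F) ∘ (σ ∘ v) = σ' ∘ v := by funext i; simp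
      rw [e', Units.val_mul, ← Matrix.mulVec_mulVec, ek, Matrix.mulVec_smul, gl_inv_mulVec]
    obtain ⟨hτ, a, ha⟩ := semilinear_trivial hm hp
    refine ⟨RingEquiv.ext fun c => ?_, a, ?_⟩
    · simpa using (RingEquiv.congr_fun hτ (σ c)).symm
    · have ha' : FieldAut.scal a = g⁻¹ * g' := ha
      rw [FieldAut.scal_comm, ha', mul_inv_cancel_left]
  · rintro ⟨rfl, a, rfl⟩
    refine congrArg (FieldAut.indAut FieldAut.spMat_injective) (Subtype.ext ?_)
    show MulAut.conj g * FieldAut.galGL σ = MulAut.conj (FieldAut.scal a * g) * FieldAut.galGL σ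
    congr 1
    refine MulEquiv.ext fun x => ?_
    simp only [MulAut.conj_apply, _root_.mul_inv_rev]
    calc g * x * g⁻¹ = FieldAut.scal a * (g * x * g⁻¹) * (FieldAut.scal a)⁻¹ := by
          rw [FieldAut.scal_comm a (g * x * g⁻¹), mul_inv_cancel_right]
      _ = _ := by group

/-- The set of semilinear automorphisms. -/
def semiSet (m : ℕ) (F : Type*) [Field F] : Set (MulAut (Cfsg.PSp m F)) :=
  Set.range fun x : Cfsg.GSp m F × (F ≃+* F) => semiAut x.1.2 x.2

theorem mem_semiSet_of_transPres [Finite F] (hm : 2 ≤ m) {α : MulAut PG}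
    (hα : TransPres (m := m) (F := F) α) : α ∈ semiSet m F := by
  obtain ⟨g, σ, hg, e⟩ := exists_semilinear_eq hm hα
  exact ⟨(⟨g, hg⟩, σ), e.symm⟩

theorem transPres_semiAut {g : GLm} (hg : g ∈ Cfsg.GSp m F) (σ : F ≃+* F) :
    TransPres (m := m) (F := F) (semiAut hg σ) := by
  obtain ⟨l, hl, hlf⟩ := exists_multiplier hg
  intro v hv c hc
  refine ⟨⟨_, gl_ne g (galois_ne σ hv), σ c / l, by simp [hc, hl], semi_TP σ hg hlf hl v c⟩, ?_⟩
  obtain ⟨w, hw⟩ := galois_surj σ ((g⁻¹ : GLm).1 *ᵥ v)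
  have hv' : g.1 *ᵥ (σ ∘ w) = v := by rw [hw, gl_mulVec_inv]
  have hw0 : w ≠ 0 := fun h => hv (by
    rw [← hv', h, show (σ : F → F) ∘ (0 : V) = 0 from funext fun i => map_zero σ, Matrix.mulVec_zero])
  refine ⟨w, hw0, σ.symm (c * l), by simp [hc, hl], ?_⟩
  show (semiAut hg σ).symm _ = _
  rw [MulEquiv.symm_apply_eq, semiAut, semi_TP σ hg hlf hl, hv', RingEquiv.apply_symm_apply,
    mul_div_cancel_right₀ _ hl]

theorem card_GSp [Finite F] (hm : 0 < m) :
    Nat.card (Cfsg.GSp m F) = Nat.card Fˣ * Nat.card Sp := by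
  have hker : (FieldAut.mult (F := F) hm).ker = ((FieldAut.spMat m F).range).subgroupOf (Cfsg.GSp m F) := by
    ext g
    rw [MonoidHom.mem_ker, Subgroup.mem_subgroupOf, FieldAut.mem_spMat_range]
    constructor
    · intro h
      have := FieldAut.mult_spec hm g
      rwa [h, Units.val_one, one_smul] at this
    · intro h
      exact FieldAut.mult_eq hm (by rw [h, Units.val_one, one_smul])
  have hsurj : Function.Surjective (FieldAut.mult (F := F) hm) := by
    intro c
    obtain ⟨g, -, hg⟩ := FieldAut.exists_diag_GSp (m := m) c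
    exact ⟨_, FieldAut.mult_mk hm g c hg⟩
  have hle : (FieldAut.spMat m F).range ≤ Cfsg.GSp m F := by
    rintro _ ⟨h, rfl⟩; exact FieldAut.spMat_mem_GSp h
  rw [Subgroup.card_eq_card_quotient_mul_card_subgroup (FieldAut.mult (F := F) hm).ker,
    Nat.card_congr (QuotientGroup.quotientKerEquivOfSurjective _ hsurj).toEquiv, hker,
    Nat.card_congr (Subgroup.subgroupOfEquivOfLe hle).toEquiv,
    ← Nat.card_congr (MonoidHom.ofInjective FieldAut.spMat_injective).toEquiv]

theorem card_semiSet [Finite F] (hm : 1 ≤ m) :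
    Nat.card (semiSet m F) = Nat.card Sp * Nat.card (F ≃+* F) := by
  classical
  have : Nonempty (Fin m ⊕ Fin m) := ⟨.inl ⟨0, hm⟩⟩
  let r : semiSet m F → Cfsg.GSp m F × (F ≃+* F) := fun y => y.2.choose
  have hr : ∀ y : semiSet m F, semiAut (r y).1.2 (r y).2 = y.1 := fun y => y.2.choose_spec
  let Ψ : semiSet m F × Fˣ → Cfsg.GSp m F × (F ≃+* F) := fun z =>
    (⟨FieldAut.scal z.2 * (r z.1).1.1, mul_mem (FieldAut.scal_mem_GSp _) (r z.1).1.2⟩, (r z.1).2)
  have hΨ : Function.Bijective Ψ := by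
    constructor
    · rintro ⟨y, a⟩ ⟨y', a'⟩ e
      have e1 : FieldAut.scal a * (r y).1.1 = FieldAut.scal a' * (r y').1.1 :=
        congrArg (fun z : Cfsg.GSp m F × (F ≃+* F) => z.1.1) e
      have e2 : (r y).2 = (r y').2 := (congrArg Prod.snd e :)
      have hy : y = y' := by
        apply Subtype.ext
        rw [← hr y, ← hr y']
        refine (semiAut_eq_iff hm _ _ _ _).mpr ⟨e2, a'⁻¹ * a, ?_⟩
        rw [map_mul, mul_assoc, e1, ← mul_assoc, ← map_mul, inv_mul_cancel, map_one, one_mul]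
      subst hy
      rw [FieldAut.scal_injective (mul_right_cancel e1)]
    · rintro ⟨⟨g, hg⟩, σ⟩
      let y : semiSet m F := ⟨semiAut hg σ, ⟨(⟨g, hg⟩, σ), rfl⟩⟩
      obtain ⟨hσ, a, ha⟩ := (semiAut_eq_iff hm (r y).1.2 hg _ σ).mp (hr y)
      exact ⟨(y, a), Prod.ext (Subtype.ext ha.symm) hσ⟩
  have h := Nat.card_congr (Equiv.ofBijective Ψ hΨ)
  rw [Nat.card_prod, Nat.card_prod, card_GSp hm, mul_comm (Nat.card (semiSet m F)), mul_assoc] at h
  exact Nat.eq_of_mul_eq_mul_left Nat.card_pos h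

theorem card_Sp_eq_center_mul [Finite F] (hm : 1 ≤ m) :
    Nat.card Sp = Nat.gcd 2 (Nat.card F - 1) * Nat.card PG := by
  rw [← GLOrder.card_center_Sp hm, mul_comm]
  exact Subgroup.card_eq_card_quotient_mul_card_subgroup _

end Cfsg.Agent.AutPSp
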