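import Cfsg.Agent.Lib.AutPSp.Graph

/-!
# Automorphisms of PSp_4 in characteristic two
* `aut_cases` : every automorphism is semilinear or the graph automorphism times a semilinear one
* `card_mulAut_four`, `graph_sq`
-/

set_option autoImplicit false

open Matrix

namespace Cfsg.Agent.AutPSp

variable {F : Type*} [Field F] [CharP F 2] [Finite F]

local notation "V" => (Fin 2 ⊕ Fin 2 → F)
local notation "f" => Cfsg.sympForm 2 F
local notation "Sp" => Matrix.symplecticGroup (Fin 2) F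
local notation "PG" => Cfsg.PSp 2 F
local notation "ee" i => (Pi.single (Sum.inl i) 1 : Fin 2 ⊕ Fin 2 → F)
local notation "dd" i => (Pi.single (Sum.inr i) 1 : Fin 2 ⊕ Fin 2 → F)

theorem exists_sqrt (c : F) : ∃ d : F, d ^ 2 = c := by
  have hr : ringChar F = 2 := ringChar.eq F 2
  obtain ⟨d, hd⟩ := FieldAut.exists_sq_of_char_two hr c
  exact ⟨d, by rw [pow_two, hd]⟩

/-- Every transvection class is conjugate to the standard one. -/
theorem TP_conj_std {v : V} (hv : v ≠ 0) {c : F} (hc : c ≠ 0) :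
    ∃ g : PG, TP v c = g * TP (ee 0) 1 * g⁻¹ := by
  obtain ⟨d, rfl⟩ := exists_sqrt c
  have hd : d ≠ 0 := fun h => hc (by simp [h])
  obtain ⟨g, hg⟩ := Linear.exists_spGL_smul_eq (u := ee 0) (v := d • v) (by simp) (smul_ne_zero hd hv)
  refine ⟨pr 2 F ((Linear.spEquiv 2 F).symm g), ?_⟩
  rw [conj_TP, ← Linear.spEquiv_smul, MulEquiv.apply_symm_apply, hg, TP_smul, mul_one]

/-- Transvection classes. -/
def IsTP (x : Cfsg.PSp 2 F) : Prop := ∃ v : Fin 2 ⊕ Fin 2 → F, v ≠ 0 ∧ ∃ c : F, c ≠ 0 ∧ x = TP v c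

theorem isTP_conj {x : PG} (g : PG) (hx : IsTP x) : IsTP (g * x * g⁻¹) := by
  obtain ⟨v, hv, c, hc, rfl⟩ := hx
  obtain ⟨s, rfl⟩ := pr_surjective g
  exact ⟨s.1 *ᵥ v, sp_ne hv, c, hc, conj_TP s v c⟩

theorem short_not_TP : ¬ IsTP (graphAut F (TP (ee 0) 1)) := by
  rintro ⟨v, -, c, -, h⟩
  rw [TP, graphAut_pr] at h
  have e := congrArg Subtype.val (pr_injective h)
  rw [phi_tv] at e
  have e0 := congrArg (fun M => M *ᵥ (dd 0)) e
  have e1 := congrArg (fun M => M *ᵥ (dd 1)) e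
  simp only [tv_mulVec, shortMat, one_smul, Matrix.add_mulVec, Matrix.one_mulVec, add_right_inj] at e0 e1
  have a1 := congrFun e0 (Sum.inl 1)
  have b1 := congrFun e1 (Sum.inl 1)
  have b0 := congrFun e1 (Sum.inl 0)
  simp [Matrix.single] at a1 b1 b0
  rcases b1 with h' | h'
  · rcases h' with h' | h' <;> simp [h'] at b0
  · simp [h'] at a1

/-- The mixed elements have a class larger than that of the transvections. -/
theorem mixed_large {s : Sp} {A B : F} (hA : A ≠ 0) (hB : B ≠ 0)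
    (hexp : ∀ y : V, (s.1 - 1) *ᵥ y = (y (Sum.inr 0) * A + y (Sum.inr 1) * B) • (ee 0) + (y (Sum.inr 0) * B) • (ee 1)) :
    Nat.card F ^ (2 * 2) - 1 < (conjugatesOf (pr 2 F s)).ncard := by
  classical
  set q := Nat.card F with hq
  set C := conjugatesOf (pr 2 F s) with hC
  let U := {u : V // u ≠ 0}
  let P := Σ u : U, ↑({w : V | f u.1 w = 0} \ {w : V | ∃ a : F, a • u.1 = w})
  have hg : ∀ x : P, ∃ g : Sp, g.1 *ᵥ (ee 0) = x.1.1 ∧ g.1 *ᵥ (ee 1) = x.2.1 := fun x =>
    exists_sp_pair (i0 := (0 : Fin 2)) (i1 := (1 : Fin 2)) rfl rfl x.1.2 (fun a ha => x.2.2.2 ⟨a, ha⟩) x.2.2.1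
  choose g hg0 hg1 using hg
  have hmemC : ∀ x : P, pr 2 F (g x * s * (g x)⁻¹) ∈ C := fun x =>
    isConj_iff.mpr ⟨pr 2 F (g x), by rw [map_mul, map_mul, map_inv]⟩
  have ht : ∀ y : C, ∃ t : Sp, pr 2 F (t * s * t⁻¹) = y.1 := fun y => by
    obtain ⟨g', hg'⟩ := isConj_iff.mp (show IsConj (pr 2 F s) y.1 from y.2)
    obtain ⟨t, rfl⟩ := pr_surjective g'
    exact ⟨t, by rw [map_mul, map_mul, map_inv, hg']⟩
  choose t ht using ht
  -- the centraliser of s fixes the flag
  have hflag : ∀ h : Sp, h * s = s * h →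
      (∃ a : F, h.1 *ᵥ (ee 0) = a • (ee 0)) ∧ ∃ p r : F, h.1 *ᵥ (ee 1) = p • (ee 0) + r • (ee 1) := by
    intro h hh
    have hc : ∀ z : V, h.1 *ᵥ ((s.1 - 1) *ᵥ z) = (s.1 - 1) *ᵥ (h.1 *ᵥ z) := by
      intro z
      rw [Matrix.sub_mulVec, Matrix.sub_mulVec, Matrix.one_mulVec, Matrix.one_mulVec, Matrix.mulVec_sub,
        Matrix.mulVec_mulVec, Matrix.mulVec_mulVec, ← Submonoid.coe_mul, ← Submonoid.coe_mul, hh]
    have he0 : (s.1 - 1) *ᵥ (B⁻¹ • (dd 1)) = ee 0 := by
      rw [hexp]; simp [hB]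
    have he1 : (s.1 - 1) *ᵥ (B⁻¹ • ((dd 0) - (A * B⁻¹) • (dd 1))) = ee 1 := by
      rw [hexp]; simp [hB]; field_simp; ring
    refine ⟨?_, ?_⟩
    · have e := hc (B⁻¹ • (dd 1))
      rw [he0, hexp] at e
      set z : V := h.1 *ᵥ (B⁻¹ • (dd 1)) with hz
      have hQ : f ((s.1 - 1) *ᵥ z) z = 0 := by
        rw [hz, ← hc, sp_form, he0, Linear.sympForm_single_inl_left]
        simp
      have hz0 : z (Sum.inr 0) = 0 := by
        rw [hexp, Linear.sympForm_add_left, Linear.sympForm_smul_left, Linear.sympForm_smul_left,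
          Linear.sympForm_single_inl_left, Linear.sympForm_single_inl_left] at hQ
        have h2 := two_zero (F := F)
        have : A * (z (Sum.inr 0) * z (Sum.inr 0)) = 0 := by
          linear_combination -hQ - (z (Sum.inr 0) * z (Sum.inr 1) * B) * h2
        simpa [hA] using this
      refine ⟨z (Sum.inr 1) * B, ?_⟩
      rw [e, hz0]
      simp
    · have e := hc (B⁻¹ • ((dd 0) - (A * B⁻¹) • (dd 1)))
      rw [he1, hexp] at e
      exact ⟨_, _, e⟩
  let W := {a : F // a ≠ 0} × F × {a : F // a ≠ 0}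
  let pt : Sp → W → V × V := fun t x => (t.1 *ᵥ (x.1.1 • (ee 0)), t.1 *ᵥ (x.2.1 • (ee 0) + x.2.2.1 • (ee 1)))
  let Φ : P → Σ y : C, ↑(Set.range (pt (t y))) := fun x => ⟨⟨_, hmemC x⟩, ⟨(x.1.1, x.2.1), by
    set y : C := ⟨_, hmemC x⟩
    set h : Sp := (t y)⁻¹ * g x with hh
    have hhs : h * s = s * h := by
      have e := pr_injective (ht y)
      calc h * s = (t y)⁻¹ * (g x * s * (g x)⁻¹) * g x := by rw [hh]; group
        _ = (t y)⁻¹ * (t y * s * (t y)⁻¹) * g x := by rw [e]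
        _ = s * h := by rw [hh]; group
    obtain ⟨⟨a, ha⟩, p, r, hr⟩ := hflag h hhs
    have hgh : ∀ v : V, (g x).1 *ᵥ v = (t y).1 *ᵥ (h.1 *ᵥ v) := by
      intro v
      rw [Matrix.mulVec_mulVec, ← Submonoid.coe_mul, hh, mul_inv_cancel_left]
    have hu := hgh (ee 0)
    rw [hg0, ha] at hu
    have hw := hgh (ee 1)
    rw [hg1, hr] at hw
    have ha0 : a ≠ 0 := fun h0 => x.1.2 (by rw [hu, h0, zero_smul, Matrix.mulVec_zero])
    have hr0 : r ≠ 0 := fun h0 => x.2.2.2 ⟨p * a⁻¹, by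
      rw [hw, hu, h0, zero_smul, add_zero, Matrix.mulVec_smul, Matrix.mulVec_smul, smul_smul,
        mul_assoc, inv_mul_cancel₀ ha0, mul_one]⟩
    exact ⟨(⟨a, ha0⟩, p, ⟨r, hr0⟩), Prod.ext hu.symm hw.symm⟩⟩⟩
  have hΦ : Function.Injective Φ := by
    intro x y e
    have e' : (x.1.1, x.2.1) = (y.1.1, y.2.1) :=
      congrArg (fun z : Σ y : C, ↑(Set.range (pt (t y))) => (z.2.1 : V × V)) e
    have e1 : x.1.1 = y.1.1 := congrArg Prod.fst e'
    have e2 : x.2.1 = y.2.1 := congrArg Prod.snd e'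
    obtain ⟨⟨u, hu⟩, w, hw⟩ := x
    obtain ⟨⟨u', hu'⟩, w', hw'⟩ := y
    subst e1 e2
    rfl
  have hF0 : Nat.card {a : F // a ≠ 0} = q - 1 := by
    rw [← Nat.card_congr unitsEquivNeZero, Nat.card_units]
  have hbound : Nat.card P ≤ C.ncard * ((q - 1) * (q * (q - 1))) := by
    refine (Nat.card_le_card_of_injective Φ hΦ).trans ?_
    have : Fintype C := Fintype.ofFinite C
    rw [Nat.card_sigma]
    refine (Finset.sum_le_sum (g := fun _ => (q - 1) * (q * (q - 1))) fun y _ => ?_).trans (le_of_eq ?_)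
    · refine (Finite.card_range_le _).trans (le_of_eq ?_)
      rw [Nat.card_prod, Nat.card_prod, hF0]
    · rw [Finset.sum_const, Finset.card_univ, smul_eq_mul, ← Nat.card_eq_fintype_card, Nat.card_coe_set_eq]
  have hP : (q ^ (2 * 2) - 1) * (q ^ 3 - q) ≤ Nat.card P := by
    have hU : Nat.card U = q ^ (2 * 2) - 1 := by
      rw [← ncard_nonzero, ← Nat.card_coe_set_eq]; rfl
    haveI : Fintype U := Fintype.ofFinite U
    rw [Nat.card_sigma]
    have hfib : ∀ u : U, q ^ 3 - q ≤ Nat.card ↑({w : V | f u.1 w = 0} \ {w : V | ∃ a : F, a • u.1 = w}) := by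
      intro u
      rw [Nat.card_coe_set_eq]
      refine le_trans ?_ (Set.le_ncard_diff _ _)
      refine tsub_le_tsub (le_of_eq ?_) ?_
      · have h := ncard_perp (m := 2) u.2
        have hqp : 0 < q := Nat.card_pos
        apply Nat.eq_of_mul_eq_mul_right hqp
        rw [h, ← pow_succ]
      · rw [show {w : V | ∃ a : F, a • u.1 = w} = Set.range (fun a : F => a • u.1) from rfl]
        rw [← Nat.card_coe_set_eq]
        exact Finite.card_range_le _
    refine le_trans (le_of_eq ?_) (Finset.sum_le_sum fun u _ => hfib u)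
    rw [Finset.sum_const, Finset.card_univ, smul_eq_mul, ← Nat.card_eq_fintype_card, hU]
  have hq2 : 2 ≤ q := Finite.one_lt_card
  by_contra hle
  push Not at hle
  have hpos : 0 < q ^ (2 * 2) - 1 := by
    have : 2 ≤ q ^ (2 * 2) := hq2.trans (Nat.le_self_pow (by omega) q)
    omega
  have h3 : q ^ 3 - q ≤ (q - 1) * (q * (q - 1)) :=
    Nat.le_of_mul_le_mul_left (hP.trans (hbound.trans (Nat.mul_le_mul_right _ hle))) hpos
  obtain ⟨k, hk⟩ : ∃ k, q = k + 2 := ⟨q - 2, by omega⟩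
  rw [hk] at h3
  rw [show k + 2 - 1 = k + 1 from rfl] at h3
  have e : (k + 2) ^ 3 = (k + 1) * ((k + 2) * (k + 1)) + 2 * (k + 2) * (k + 1) + (k + 2) := by ring
  have : 0 < 2 * (k + 2) * (k + 1) := by positivity
  omega

theorem isTP_or_graph {x : PG} (hx : Crit 2 F 2 x) : IsTP x ∨ IsTP ((graphAut F)⁻¹ x) := by
  haveI : Fact (Nat.Prime 2) := ⟨Nat.prime_two⟩
  obtain ⟨hx1, ⟨P, hP⟩, hcard⟩ := hx
  obtain ⟨g, hg⟩ := exists_central_form 2 le_rfl P hP
  rcases centralises_W le_rfl hg with ⟨c, hc⟩ | ⟨-, s, A, B, hs, hB, hexp, -, -⟩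
  · left
    have hxe : x = g⁻¹ * TP (ee 0) c * g⁻¹⁻¹ := by rw [show (ee 0) = (ee (⟨0, by omega⟩ : Fin 2)) from rfl, ← hc]; group
    rw [hxe]
    exact isTP_conj _ ⟨ee 0, by simp, c, fun hc0 => hx1 (by rw [hxe, hc0, TP_zero]; group), rfl⟩
  · by_cases hA : A = 0
    · right
      have hse : s = phiHom F (tv (ee 0) B) := by
        refine sp_ext fun y => ?_
        have := hexp y
        rw [Matrix.sub_mulVec, Matrix.one_mulVec, sub_eq_iff_eq_add] at this
        rw [this, phi_tv, shortMat, hA]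
        funext a
        rcases a with i | i <;> fin_cases i <;> simp [Matrix.add_mulVec, Matrix.single, Matrix.mulVec, dotProduct, mul_comm] <;> ring
      have hxe : x = g⁻¹ * graphAut F (TP (ee 0) B) * g⁻¹⁻¹ := by
        rw [TP, graphAut_pr, ← hse, hs]; group
      rw [hxe]
      simp only [map_mul, map_inv, MulAut.inv_apply_self]
      exact isTP_conj _ ⟨ee 0, by simp, B, hB, rfl⟩
    · exfalso
      have hgt := mixed_large hA hB hexp
      rw [hs, ← (show IsConj x (g * x * g⁻¹) from isConj_iff.mpr ⟨g, rfl⟩).conjugatesOf_eq] at hgt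
      omega

/-- An automorphism mapping the standard transvection to a transvection permutes all of them. -/
theorem transPres_of_std {α : MulAut PG} (h : IsTP (α (TP (ee 0) 1))) : TransPres (m := 2) (F := F) α := by
  have hsub : ∀ x : PG, IsTP x → IsTP (α x) := by
    rintro _ ⟨v, hv, c, hc, rfl⟩
    obtain ⟨g, hg⟩ := TP_conj_std hv hc
    rw [hg, map_mul, map_mul, map_inv]
    exact isTP_conj _ h
  have hfin : {x : PG | IsTP x}.Finite := Set.toFinite _
  have himg : α '' {x : PG | IsTP x} = {x : PG | IsTP x} := by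
    refine Set.eq_of_subset_of_ncard_le ?_ ?_ hfin
    · rintro _ ⟨x, hx, rfl⟩; exact hsub x hx
    · rw [Set.ncard_image_of_injective _ α.injective]
  intro v hv c hc
  refine ⟨hsub _ ⟨v, hv, c, hc, rfl⟩, ?_⟩
  have : TP v c ∈ α '' {x : PG | IsTP x} := by rw [himg]; exact ⟨v, hv, c, hc, rfl⟩
  obtain ⟨x, hx, hxe⟩ := this
  rw [← hxe, MulAut.inv_apply_self]
  exact hx

theorem aut_cases (α : MulAut PG) :
    α ∈ semiSet 2 F ∨ (graphAut F)⁻¹ * α ∈ semiSet 2 F := by
  haveI : Fact (Nat.Prime 2) := ⟨Nat.prime_two⟩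
  have hcrit := crit_map α (crit_TP (m := 2) (F := F) 2 (by omega) (v := ee 0) (by simp) one_ne_zero)
  rcases isTP_or_graph hcrit with h | h
  · exact Or.inl (mem_semiSet_of_transPres le_rfl (transPres_of_std h))
  · exact Or.inr (mem_semiSet_of_transPres le_rfl (transPres_of_std h))

theorem graph_mul_not_semi {α : MulAut PG} (hα : α ∈ semiSet 2 F) : graphAut F * α ∉ semiSet 2 F := by
  rintro ⟨⟨⟨g, hg⟩, σ⟩, h⟩
  obtain ⟨⟨⟨g', hg'⟩, σ'⟩, rfl⟩ := hα
  obtain ⟨v, hv, c, hc, e⟩ := (transPres_semiAut hg' σ' (ee 0) (by simp) 1 one_ne_zero).1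
  obtain ⟨v', hv', c', hc', e'⟩ := (transPres_semiAut hg σ (ee 0) (by simp) 1 one_ne_zero).1
  have h1 := congrArg (fun β : MulAut PG => β (TP (ee 0) 1)) h
  simp only [MulAut.mul_apply] at h1
  rw [e, e'] at h1
  obtain ⟨k, hk⟩ := TP_conj_std hv hc
  rw [hk, map_mul, map_mul, map_inv] at h1
  refine short_not_TP (F := F) ?_
  have e2 : graphAut F (TP (ee 0) 1) = (graphAut F k)⁻¹ * TP v' c' * (graphAut F k)⁻¹⁻¹ := by rw [h1]; group
  rw [e2]
  exact isTP_conj _ ⟨v', hv', c', hc', rfl⟩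

theorem card_mulAut_four : Nat.card (MulAut PG) = 2 * Nat.card (semiSet 2 F) := by
  classical
  let Φ : Bool × semiSet 2 F → MulAut PG := fun x => if x.1 then graphAut F * x.2.1 else x.2.1
  have hΦ : Function.Bijective Φ := by
    constructor
    · rintro ⟨a, x⟩ ⟨b, y⟩ h
      cases a <;> cases b <;> simp only [Φ, Bool.false_eq_true, if_true, if_false] at h
      · exact Prod.ext rfl (Subtype.ext h)
      · exact absurd (h ▸ x.2) (graph_mul_not_semi y.2)
      · exact absurd (h.symm ▸ y.2) (graph_mul_not_semi x.2)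
      · exact Prod.ext rfl (Subtype.ext (mul_left_cancel h))
    · intro α
      rcases aut_cases α with h | h
      · exact ⟨(false, ⟨α, h⟩), rfl⟩
      · exact ⟨(true, ⟨_, h⟩), mul_inv_cancel_left _ _⟩
  rw [← Nat.card_congr (Equiv.ofBijective Φ hΦ), Nat.card_prod]
  simp

end Cfsg.Agent.AutPSp
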