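import Cfsg.Agent.Lib.AutPSp.Count

/-!
# The exceptional automorphism of PSp_4 in characteristic two
* `gmat` (2x2 minors), `phiHom : Sp_4 →* Sp_4`, `phi_tv`, `phi_phi_tv`, `phi_injective`
* `graphAut : MulAut (PSp 2 F)`
-/

set_option autoImplicit false

open Matrix

namespace Cfsg.Agent.AutPSp

variable {F : Type*} [Field F]

local notation "V" => (Fin 2 ⊕ Fin 2 → F)
local notation "f" => Cfsg.sympForm 2 F
local notation "Sp" => Matrix.symplecticGroup (Fin 2) F
local notation "ee" i => (Pi.single (Sum.inl i) 1 : Fin 2 ⊕ Fin 2 → F)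
local notation "dd" i => (Pi.single (Sum.inr i) 1 : Fin 2 ⊕ Fin 2 → F)

/-- The index pairs of the reduced exterior square. -/
def gpair : Fin 2 ⊕ Fin 2 → (Fin 2 ⊕ Fin 2) × (Fin 2 ⊕ Fin 2)
  | Sum.inl i => if i = 0 then (Sum.inl 0, Sum.inl 1) else (Sum.inl 0, Sum.inr 1)
  | Sum.inr i => if i = 0 then (Sum.inr 0, Sum.inr 1) else (Sum.inl 1, Sum.inr 0)

/-- A two by two minor. -/
def minor (g : Matrix (Fin 2 ⊕ Fin 2) (Fin 2 ⊕ Fin 2) F) (a b : (Fin 2 ⊕ Fin 2) × (Fin 2 ⊕ Fin 2)) : F :=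
  g a.1 b.1 * g a.2 b.2 - g a.1 b.2 * g a.2 b.1

/-- The matrix on the reduced exterior square. -/
def gmat (g : Matrix (Fin 2 ⊕ Fin 2) (Fin 2 ⊕ Fin 2) F) : Matrix (Fin 2 ⊕ Fin 2) (Fin 2 ⊕ Fin 2) F :=
  Matrix.of fun a b => minor g (gpair a) (gpair b)

theorem sumForm (u v : V) : f u v =
    u (Sum.inr 0) * v (Sum.inl 0) - u (Sum.inl 0) * v (Sum.inr 0) +
      (u (Sum.inr 1) * v (Sum.inl 1) - u (Sum.inl 1) * v (Sum.inr 1)) := by
  rw [Linear.sympForm_eq_sum, Fin.sum_univ_two]

theorem col_orth (g : Sp) (b : Fin 2 ⊕ Fin 2) :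
    f (fun i => g.1 i (gpair b).1) (fun i => g.1 i (gpair b).2) = 0 := by
  have e := sp_form g (Pi.single (gpair b).1 1) (Pi.single (gpair b).2 1)
  rw [Matrix.mulVec_single_one, Matrix.mulVec_single_one] at e
  show f (g.1.col (gpair b).1) (g.1.col (gpair b).2) = 0
  rw [e, sumForm]
  rcases b with i | i <;> fin_cases i <;> simp [gpair]

theorem minor_mul (g h : Matrix (Fin 2 ⊕ Fin 2) (Fin 2 ⊕ Fin 2) F) (a b : (Fin 2 ⊕ Fin 2) × (Fin 2 ⊕ Fin 2)) :
    minor (g * h) a b = (∑ c, minor g a (gpair c) * minor h (gpair c) b) +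
      minor g a (Sum.inl 0, Sum.inr 0) * minor h (Sum.inl 0, Sum.inr 0) b +
      minor g a (Sum.inl 1, Sum.inr 1) * minor h (Sum.inl 1, Sum.inr 1) b := by
  simp only [minor, Matrix.mul_apply, Fintype.sum_sum_type, Fin.sum_univ_two, gpair, if_true, if_neg (by decide : ¬(1 : Fin 2) = 0)]
  ring

variable [CharP F 2]

theorem two_zero : (2 : F) = 0 := CharTwo.two_eq_zero

theorem gmat_mul (g h : Sp) : gmat (g.1 * h.1) = gmat g.1 * gmat h.1 := by
  ext a b
  have hh := col_orth h b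
  have hg := col_orth ⟨g.1ᵀ, SymplecticGroup.transpose_mem g.2⟩ a
  rw [sumForm] at hh hg
  simp only [Matrix.transpose_apply] at hg
  show minor (g.1 * h.1) (gpair a) (gpair b) = _
  rw [minor_mul, Matrix.mul_apply]
  show _ = ∑ c, minor g.1 (gpair a) (gpair c) * minor h.1 (gpair c) (gpair b)
  have e1 : minor h.1 (Sum.inl 0, Sum.inr 0) (gpair b) + minor h.1 (Sum.inl 1, Sum.inr 1) (gpair b) = 0 := by
    simp only [minor]
    linear_combination -hh
  have e2 : minor g.1 (gpair a) (Sum.inl 0, Sum.inr 0) + minor g.1 (gpair a) (Sum.inl 1, Sum.inr 1) = 0 := by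
    simp only [minor]
    linear_combination -hg
  linear_combination (minor g.1 (gpair a) (Sum.inl 0, Sum.inr 0)) * e1 +
    (minor h.1 (Sum.inl 1, Sum.inr 1) (gpair b)) * e2 +
    (-(minor g.1 (gpair a) (Sum.inl 0, Sum.inr 0) * minor h.1 (Sum.inl 1, Sum.inr 1) (gpair b))) * (two_zero (F := F))

/-- The sum of complementary minor products of two pairs of orthogonal vectors. -/
theorem pfaffian (x y z w : V) (hxy : f x y = 0) (hzw : f z w = 0) :
    (x (Sum.inr 0) * y (Sum.inr 1) - y (Sum.inr 0) * x (Sum.inr 1)) *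
        (z (Sum.inl 0) * w (Sum.inl 1) - w (Sum.inl 0) * z (Sum.inl 1)) -
      (x (Sum.inl 0) * y (Sum.inl 1) - y (Sum.inl 0) * x (Sum.inl 1)) *
        (z (Sum.inr 0) * w (Sum.inr 1) - w (Sum.inr 0) * z (Sum.inr 1)) +
      ((x (Sum.inl 1) * y (Sum.inr 0) - y (Sum.inl 1) * x (Sum.inr 0)) *
        (z (Sum.inl 0) * w (Sum.inr 1) - w (Sum.inl 0) * z (Sum.inr 1)) -
      (x (Sum.inl 0) * y (Sum.inr 1) - y (Sum.inl 0) * x (Sum.inr 1)) *
        (z (Sum.inl 1) * w (Sum.inr 0) - w (Sum.inl 1) * z (Sum.inr 0))) =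
      f x z * f y w + f x w * f y z := by
  have h2 := two_zero (F := F)
  rw [sumForm] at hxy hzw
  simp only [sumForm]
  linear_combination (norm := skip)
    (z (Sum.inl 0) * w (Sum.inr 0) - w (Sum.inl 0) * z (Sum.inr 0)) * hxy +
    (x (Sum.inl 1) * y (Sum.inr 1) - y (Sum.inl 1) * x (Sum.inr 1)) * hzw
  ring_nf
  simp [h2]

theorem gmat_one : gmat (1 : Matrix (Fin 2 ⊕ Fin 2) (Fin 2 ⊕ Fin 2) F) = 1 := by
  ext a b
  rcases a with i | i <;> rcases b with j | j <;> fin_cases i <;> fin_cases j <;>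
    simp [gmat, minor, gpair]

theorem gmat_mem (g : Sp) : gmat g.1 ∈ Matrix.symplecticGroup (Fin 2) F := by
  rw [SymplecticGroup.mem_iff']
  refine Matrix.ext fun a b => ?_
  have key : f ((gmat g.1).col a) ((gmat g.1).col b) = f (Pi.single a 1) (Pi.single b 1) := by
    have hp := pfaffian (fun i => g.1 i (gpair a).1) (fun i => g.1 i (gpair a).2)
      (fun i => g.1 i (gpair b).1) (fun i => g.1 i (gpair b).2) (col_orth g a) (col_orth g b)
    have hc : ∀ c d : Fin 2 ⊕ Fin 2, f (fun i => g.1 i c) (fun i => g.1 i d) =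
        f (Pi.single c 1) (Pi.single d 1) := by
      intro c d
      have e := sp_form g (Pi.single c 1) (Pi.single d 1)
      rw [Matrix.mulVec_single_one, Matrix.mulVec_single_one] at e
      exact e
    rw [hc, hc, hc, hc] at hp
    rw [sumForm]
    simp only [Matrix.col_apply, gmat, Matrix.of_apply, minor]
    refine Eq.trans ?_ (Eq.trans hp ?_)
    · simp only [gpair, if_true, if_neg (by decide : ¬(1 : Fin 2) = 0)]
    · simp only [sumForm]
      rcases a with i | i <;> rcases b with j | j <;> fin_cases i <;> fin_cases j <;>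
        simp [gpair] <;> first | exact (CharTwo.neg_eq (1 : F)).symm | exact CharTwo.neg_eq (1 : F)
  have e : ∀ M : Matrix (Fin 2 ⊕ Fin 2) (Fin 2 ⊕ Fin 2) F,
      (Mᵀ * Matrix.J (Fin 2) F * M) a b = f (M.col a) (M.col b) := by
    intro M
    rw [Cfsg.sympForm, Matrix.mul_assoc, Matrix.mul_apply]
    exact Finset.sum_congr rfl fun i _ => rfl
  rw [e, key]
  simp [Cfsg.sympForm]

/-- The endomorphism of Sp_4 given by the reduced exterior square. -/
def phiHom (F : Type*) [Field F] [CharP F 2] :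
    Matrix.symplecticGroup (Fin 2) F →* Matrix.symplecticGroup (Fin 2) F where
  toFun g := ⟨gmat g.1, gmat_mem g⟩
  map_one' := Subtype.ext gmat_one
  map_mul' g h := Subtype.ext (gmat_mul g h)

theorem phi_coe (g : Sp) : (phiHom F g).1 = gmat g.1 := rfl

/-- The short root element with parameters `(0, c)`. -/
def shortMat (c : F) : Matrix (Fin 2 ⊕ Fin 2) (Fin 2 ⊕ Fin 2) F :=
  1 + c • (Matrix.single (Sum.inl 0) (Sum.inr 1) 1 + Matrix.single (Sum.inl 1) (Sum.inr 0) 1)

theorem tv_e_entry (c : F) (a b : Fin 2 ⊕ Fin 2) :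
    (tv (ee 0) c).1 a b = (if a = b then 1 else 0) + (if a = Sum.inl 0 ∧ b = Sum.inr 0 then c else 0) := by
  have e := congrFun (tv_mulVec (ee 0) c (Pi.single b 1)) a
  rw [Matrix.mulVec_single_one] at e
  rw [show (tv (ee 0) c).1 a b = _ from e, f_ee]
  rcases a with i | i <;> rcases b with j | j <;> fin_cases i <;> fin_cases j <;> simp

theorem phi_tv (c : F) : (phiHom F (tv (ee 0) c)).1 = shortMat c := by
  ext a b
  rw [phi_coe]
  rcases a with i | i <;> rcases b with j | j <;> fin_cases i <;> fin_cases j <;>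
    simp [gmat, minor, gpair, tv_e_entry, shortMat, Matrix.single, CharTwo.neg_eq]

theorem phi_phi_tv (c : F) : phiHom F (phiHom F (tv (ee 0) c)) = tv (ee 0) (c ^ 2) := by
  apply Subtype.ext
  rw [phi_coe, phi_tv]
  ext a b
  rcases a with i | i <;> rcases b with j | j <;> fin_cases i <;> fin_cases j <;>
    simp [gmat, minor, gpair, tv_e_entry, shortMat, Matrix.single, CharTwo.neg_eq, pow_two]

theorem tv_d_entry (c : F) (a b : Fin 2 ⊕ Fin 2) :
    (tv (dd 0) c).1 a b = (if a = b then 1 else 0) - (if a = Sum.inr 0 ∧ b = Sum.inl 0 then c else 0) := by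
  have e := congrFun (tv_mulVec (dd 0) c (Pi.single b 1)) a
  rw [Matrix.mulVec_single_one] at e
  rw [show (tv (dd 0) c).1 a b = _ from e, f_dd]
  rcases a with i | i <;> rcases b with j | j <;> fin_cases i <;> fin_cases j <;> simp [sub_eq_add_neg]

theorem neg_mat (M : Matrix (Fin 2 ⊕ Fin 2) (Fin 2 ⊕ Fin 2) F) : -M = M := by
  ext a b
  show -M a b = M a b
  exact CharTwo.neg_eq _

theorem pr_injective : Function.Injective (pr 2 F) := by
  intro g h e
  rcases pr_eq_iff.mp e with e' | e'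
  · exact Subtype.ext e'.symm
  · exact Subtype.ext (by rw [e', neg_mat])

theorem tv_add' (v : V) (c d : F) : tv v (c + d) = tv v c * tv v d :=
  Subtype.ext (Linear.sympTransvection_mul v c d).symm

theorem tv_inv (v : V) (c : F) : (tv v c)⁻¹ = tv v c :=
  inv_eq_of_mul_eq_one_right (by rw [← tv_add', CharTwo.add_self_eq_zero, tv_zero])

theorem phi_injective : Function.Injective (phiHom F) := by
  rw [← MonoidHom.ker_eq_bot_iff, Subgroup.eq_bot_iff_forall]
  intro k hk
  rw [MonoidHom.mem_ker] at hk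
  have hyp : ∀ a b : V, f a b ≠ 0 → phiHom F (tv a 1 * tv b 1) ≠ 1 := by
    intro a b hab h
    obtain ⟨g, g1, g2⟩ := Linear.exists_spGL_pair (u := ee 0) (v := dd 0) (u' := a) (v' := (f a b)⁻¹ • b)
      (by simp [Linear.sympForm_single_inl_left, CharTwo.neg_eq]) (by simp [hab])
    set s : Sp := (Linear.spEquiv 2 F).symm g
    have s1 : s.1 *ᵥ (ee 0) = a := by
      rw [← Linear.spEquiv_smul, MulEquiv.apply_symm_apply, g1]
    have s2 : s.1 *ᵥ (f a b • (dd 0)) = b := by
      rw [Matrix.mulVec_smul, ← Linear.spEquiv_smul, MulEquiv.apply_symm_apply, g2, smul_smul,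
        mul_inv_cancel₀ hab, one_smul]
    have e : tv a 1 * tv b 1 = s * (tv (ee 0) 1 * tv (dd 0) (f a b ^ 2)) * s⁻¹ := by
      rw [show s * (tv (ee 0) 1 * tv (dd 0) (f a b ^ 2)) * s⁻¹ =
        (s * tv (ee 0) 1 * s⁻¹) * (s * tv (dd 0) (f a b ^ 2) * s⁻¹) by group, tv_conj, tv_conj, s1]
      congr 1
      have e2 : tv (f a b • (s.1 *ᵥ (dd 0))) 1 = tv b 1 := by rw [← Matrix.mulVec_smul, s2]
      rw [← e2, tv_smul, mul_one]
    rw [e, map_mul, map_mul, map_inv, mul_inv_eq_one, mul_eq_left] at h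
    have h1 := congrFun (congrFun (congrArg Subtype.val h) (Sum.inl 0)) (Sum.inr 1)
    rw [map_mul, Submonoid.coe_mul, Submonoid.coe_one, Matrix.mul_apply, Fintype.sum_sum_type,
      Fin.sum_univ_two, Fin.sum_univ_two, phi_tv, phi_coe] at h1
    simp [gmat, minor, gpair, tv_d_entry, shortMat, Matrix.single] at h1
  have step : ∀ (x : Sp) (v : V), phiHom F x = 1 → phiHom F (tv (x.1 *ᵥ v) 1 * tv v 1) = 1 := by
    intro x v hx
    rw [← tv_conj x v 1, map_mul, map_mul, map_mul, map_inv, hx, one_mul, inv_one, mul_one, ← map_mul,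
      ← tv_add', CharTwo.add_self_eq_zero, tv_zero, map_one]
  by_contra hne
  obtain ⟨v, hv⟩ : ∃ v : V, ∀ a : F, a • v ≠ k.1 *ᵥ v := by
    by_contra! hall
    have hc : FieldAut.spMat 2 F k ∈ Cfsg.Geo.scalars _ F := by
      refine FieldAut.mem_scalars_of_eigen _ fun v _ => ?_
      obtain ⟨a, ha⟩ := hall v
      exact ⟨a, ha.symm⟩
    rcases GLOrder.center_Sp.1 (FieldAut.center_of_scalar FieldAut.spRigid hc) with h | h
    · exact hne (Subtype.ext h)
    · exact hne (Subtype.ext (by rw [h, neg_mat]; rfl))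
  set a := k.1 *ᵥ v
  have hx : phiHom F (tv a 1 * tv v 1) = 1 := step k v hk
  by_cases hab : f a v = 0
  · have hv0 : v ≠ 0 := fun h => hv 0 (by subst h; simp [a])
    obtain ⟨z, hza, hzv⟩ := Linear.exists_orth_not_orth (u := a) (v := v) (sp_ne hv0) fun c hc => by
      have hc0 : c ≠ 0 := fun h => hv0 (by rw [← hc, h, zero_smul])
      exact hv c⁻¹ (by rw [← hc, smul_smul, inv_mul_cancel₀ hc0, one_smul])
    refine hyp _ _ ?_ (step _ z hx)
    have hva : f v a = 0 := by rw [Linear.sympForm_swap, hab, neg_zero]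
    rw [Submonoid.coe_mul, ← Matrix.mulVec_mulVec]
    simp only [tv_mulVec, Linear.sympForm_add_left, Linear.sympForm_smul_left, Linear.sympForm_self,
      Linear.sympForm_swap z a, hza, hva, Linear.sympForm_swap z v, neg_zero, mul_zero, zero_mul, add_zero,
      zero_add, zero_smul, one_mul]
    simpa using hzv
  · exact hyp _ _ hab hx

/-- The exceptional automorphism. -/
noncomputable def graphAut (F : Type*) [Field F] [CharP F 2] [Finite F] : MulAut (Cfsg.PSp 2 F) :=
  (MulEquiv.ofBijective (pr 2 F) ⟨pr_injective, pr_surjective⟩).symm.trans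
    ((MulEquiv.ofBijective (phiHom F) (Finite.injective_iff_bijective.mp phi_injective)).trans
      (MulEquiv.ofBijective (pr 2 F) ⟨pr_injective, pr_surjective⟩))

theorem graphAut_pr [Finite F] (g : Sp) : graphAut F (pr 2 F g) = pr 2 F (phiHom F g) := by
  have e : (MulEquiv.ofBijective (pr 2 F) ⟨pr_injective, pr_surjective⟩).symm (pr 2 F g) = g :=
    (MulEquiv.ofBijective (pr 2 F) ⟨pr_injective, pr_surjective⟩).symm_apply_apply g
  exact congrArg (fun x => pr 2 F (phiHom F x)) e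

end Cfsg.Agent.AutPSp
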