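import Cfsg.Agent.Lib.AutPSp.Central

/-!
# Every automorphism of PSp permutes the transvection classes (m ≥ 3 or odd characteristic)
* `crit_iff` : transvection classes are the elements central in a Sylow p-subgroup with small class
* `transPres_all`, `gammaPSp_eq_top`
-/

set_option autoImplicit false

open Matrix

namespace Cfsg.Agent.AutPSp

variable {m : ℕ} {F : Type*} [Field F]

local notation "V" => (Fin m ⊕ Fin m → F)
local notation "f" => Cfsg.sympForm m F
local notation "Sp" => Matrix.symplecticGroup (Fin m) F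
local notation "PG" => Cfsg.PSp m F
local notation "ee" i => (Pi.single (Sum.inl i) 1 : Fin m ⊕ Fin m → F)
local notation "dd" i => (Pi.single (Sum.inr i) 1 : Fin m ⊕ Fin m → F)

theorem card_V [Finite F] : Nat.card V = Nat.card F ^ (2 * m) := by
  rw [Nat.card_fun, show Nat.card (Fin m ⊕ Fin m) = 2 * m by simp [two_mul]]

theorem ncard_nonzero [Finite F] : ({v : V | v ≠ 0}).ncard = Nat.card F ^ (2 * m) - 1 := by
  rw [show ({v : V | v ≠ 0}) = ({0} : Set V)ᶜ from rfl, Set.ncard_compl, Set.ncard_singleton, card_V]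

theorem pr_spEquiv_surjective :
    Function.Surjective ((pr m F).comp (Linear.spEquiv m F).symm.toMonoidHom) :=
  pr_surjective.comp (Linear.spEquiv m F).symm.surjective

theorem exists_sylow_central [Finite F] (p : ℕ) [Fact p.Prime] [CharP F p] (hm : 1 ≤ m) {v : V} (hv : v ≠ 0)
    (c : F) : ∃ P : Sylow p PG, ∀ y ∈ P, y * TP v c = TP v c * y := by
  classical
  set C := Subgroup.centralizer ({TP v c} : Set PG)
  set ψ := (pr m F).comp (Linear.spEquiv m F).symm.toMonoidHom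
  have hle : MulAction.stabilizer (Cfsg.spGL m F) v ≤ C.comap ψ := by
    intro g hg
    rw [Subgroup.mem_comap, Subgroup.mem_centralizer_singleton_iff]
    have hs : ((Linear.spEquiv m F).symm g).1 *ᵥ v = v := by
      rw [← Linear.spEquiv_smul, MulEquiv.apply_symm_apply]
      exact MulAction.mem_stabilizer_iff.mp hg
    have e := conj_TP ((Linear.spEquiv m F).symm g) v c
    rw [hs] at e
    exact mul_inv_eq_iff_eq_mul.mp e
  have hind : C.index ∣ Nat.card F ^ (2 * m) - 1 := by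
    rw [← @Subgroup.index_comap_of_surjective _ _ _ _ C ψ pr_spEquiv_surjective]
    refine (Subgroup.index_dvd_of_le hle).trans ?_
    rw [MulAction.index_stabilizer, ← ncard_nonzero]
    refine dvd_of_eq (congrArg Set.ncard (Set.ext fun w => ⟨?_, fun hw => ?_⟩))
    · rintro ⟨g, rfl⟩
      exact (smul_ne_zero_iff_ne g).mpr hv
    · obtain ⟨g, hg⟩ := Linear.exists_spGL_smul_eq hv hw
      exact ⟨g, hg⟩
  have hp : p.Prime := Fact.out
  have hpC : ¬ p ∣ C.index := by
    intro h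
    obtain ⟨k, hk, hq⟩ := GLOrder.exists_card_eq_pow (F := F) p
    have h1 := h.trans hind
    rw [hq, ← pow_mul] at h1
    have h2 : p ∣ p ^ (k * (2 * m)) := dvd_pow_self p (by
      have : 0 < k := Nat.pos_of_ne_zero (by omega)
      positivity)
    have h3 := Nat.dvd_sub h2 h1
    rw [Nat.sub_sub_self (Nat.one_le_pow _ _ hp.pos)] at h3
    exact hp.not_dvd_one h3
  obtain ⟨Q⟩ := (inferInstance : Nonempty (Sylow p C))
  refine ⟨Sylow.ofCard ((Q : Subgroup C).map C.subtype) ?_, ?_⟩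
  · rw [Subgroup.card_map_of_injective C.subtype_injective, Q.card_eq_multiplicity, ← C.index_mul_card,
      Nat.factorization_mul Subgroup.index_ne_zero_of_finite Nat.card_pos.ne', Finsupp.add_apply,
      Nat.factorization_eq_zero_of_not_dvd hpC, zero_add]
  · rintro _ ⟨y, -, rfl⟩
    exact Subgroup.mem_centralizer_singleton_iff.mp y.2

theorem ncard_conjugates_TP [Finite F] {v : V} (hv : v ≠ 0) (c : F) :
    (conjugatesOf (TP v c)).ncard ≤ Nat.card F ^ (2 * m) - 1 := by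
  rw [← ncard_nonzero]
  refine (Set.ncard_le_ncard (t := (fun w : V => TP w c) '' {v : V | v ≠ 0}) ?_).trans (Set.ncard_image_le)
  intro y hy
  obtain ⟨g, rfl⟩ := isConj_iff.mp (show IsConj (TP v c) y from hy)
  obtain ⟨s, rfl⟩ := pr_surjective g
  exact ⟨s.1 *ᵥ v, sp_ne hv, (conj_TP s v c).symm⟩

/-- Transitivity on orthogonal independent pairs. -/
theorem exists_sp_pair {i0 i1 : Fin m} (h0 : i0.1 = 0) (h1 : i1.1 = 1) {u w : V} (hu : u ≠ 0)
    (hind : ∀ a : F, a • u ≠ w) (huw : f u w = 0) :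
    ∃ g : Sp, g.1 *ᵥ (ee i0) = u ∧ g.1 *ᵥ (ee i1) = w := by
  have hw : w ≠ 0 := fun h => hind 0 (by rw [zero_smul, h])
  obtain ⟨z, hzw, hzu⟩ := Linear.exists_orth_not_orth (u := w) (v := u) hw fun a ha =>
    hind a⁻¹ (by
      have ha0 : a ≠ 0 := fun h => hu (by rw [← ha, h, zero_smul])
      rw [← ha, smul_smul, inv_mul_cancel₀ ha0, one_smul])
  have hed : f (ee i0) (-(dd i0)) = 1 := by
    rw [Linear.sympForm_neg_right, Linear.sympForm_single_inl_left]
    simp
  obtain ⟨g, g1, g2⟩ := Linear.exists_spGL_pair (u := ee i0) (v := -(dd i0)) (u' := u)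
    (v' := (f u z)⁻¹ • z) hed (by simp [hzu])
  set w' : V := g⁻¹ • w with hw'
  have hw'0 : w' ≠ 0 := (smul_ne_zero_iff_ne g⁻¹).mpr hw
  have a1 : f (ee i0) w' = 0 := by
    rw [← Linear.sympForm_smul_smul g, hw', smul_inv_smul, g1, huw]
  have a2 : f (-(dd i0)) w' = 0 := by
    rw [← Linear.sympForm_smul_smul g, hw', smul_inv_smul, g2, Linear.sympForm_smul_left,
      Linear.sympForm_swap z w, hzw, neg_zero, mul_zero]
  rw [Linear.sympForm_single_inl_left, neg_eq_zero] at a1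
  rw [Linear.sympForm_neg_left, Linear.sympForm_single_inr_left, neg_eq_zero] at a2
  have hw'W : w' ∈ (Linear.spTail 1 : Submodule F V) := fun i hi => by
    have : i = i0 := Fin.ext (by omega)
    subst this; exact ⟨a2, a1⟩
  have h1W : (ee i1) ∈ (Linear.spTail 1 : Submodule F V) := fun i hi => by
    have : i ≠ i1 := fun h => by subst h; omega
    simp [this]
  obtain ⟨k, hk, hk1⟩ := Linear.exists_spTv_smul_eq _ (Linear.spTail_nondegenerate 1) h1W hw'W
    (by simp) hw'0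
  have hk0 : k • (ee i0) = ee i0 := Linear.smul_eq_of_mem_closure_spTvSet (fun y hy => by
    rw [Linear.sympForm_single_inl_left, (hy i0 (by omega)).2, neg_zero]) hk
  refine ⟨(Linear.spEquiv m F).symm (g * k), ?_, ?_⟩ <;>
    rw [← Linear.spEquiv_smul, MulEquiv.apply_symm_apply, mul_smul]
  · rw [hk0, g1]
  · rw [hk1, hw', smul_inv_smul]

theorem ncard_perp [Finite F] {u : V} (hu : u ≠ 0) :
    ({w : V | f u w = 0}).ncard * Nat.card F = Nat.card F ^ (2 * m) := by
  let L : V →ₗ[F] F :=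
    { toFun := fun x => f u x
      map_add' := fun a b => Linear.sympForm_add_right u a b
      map_smul' := fun c a => Linear.sympForm_smul_right c u a }
  have hL : Function.Surjective L := by
    obtain ⟨x, hx⟩ := Linear.exists_sympForm_ne_zero hu
    intro c
    refine ⟨(c / f u x) • x, ?_⟩
    show f u _ = c
    rw [Linear.sympForm_smul_right, div_mul_cancel₀ _ hx]
  have hk := Submodule.card_eq_card_quotient_mul_card (LinearMap.ker L)
  rw [Nat.card_congr (L.quotKerEquivOfSurjective hL).toEquiv, card_V] at hk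
  rw [hk, ← Nat.card_coe_set_eq, mul_comm]
  first | rfl | (rw [mul_comm]; rfl)

/-- The rank two elements have a large class. -/
theorem ncard_conjugates_gt [Finite F] (hm : 3 ≤ m) (h2 : (2 : F) = 0) {s : Sp} {A B : F} (hB : B ≠ 0)
    {i0 i1 : Fin m} (h0 : i0.1 = 0) (h1 : i1.1 = 1)
    (himg : ∀ y : V, ∃ p q : F, (s.1 - 1) *ᵥ y = p • (ee i0) + q • (ee i1))
    (hd0 : (s.1 - 1) *ᵥ (dd i0) = A • (ee i0) + B • (ee i1))
    (hd1 : (s.1 - 1) *ᵥ (dd i1) = B • (ee i0)) :
    Nat.card F ^ (2 * m) - 1 < (conjugatesOf (pr m F s)).ncard := by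
  classical
  set q := Nat.card F with hq
  have hneg : ∀ M : Matrix (Fin m ⊕ Fin m) (Fin m ⊕ Fin m) F, -M = M := by
    intro M; ext a b
    show -M a b = M a b
    linear_combination (-(M a b)) * h2
  have hprinj : Function.Injective (pr m F) := by
    intro g h e
    rcases pr_eq_iff.mp e with e' | e'
    · exact Subtype.ext e'.symm
    · exact Subtype.ext (by rw [e', hneg])
  set C := conjugatesOf (pr m F s) with hC
  let U := {u : V // u ≠ 0}
  let P := Σ u : U, ↑({w : V | f u.1 w = 0} \ {w : V | ∃ a : F, a • u.1 = w})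
  have hg : ∀ x : P, ∃ g : Sp, g.1 *ᵥ (ee i0) = x.1.1 ∧ g.1 *ᵥ (ee i1) = x.2.1 := fun x =>
    exists_sp_pair h0 h1 x.1.2 (fun a ha => x.2.2.2 ⟨a, ha⟩) x.2.2.1
  choose g hg0 hg1 using hg
  have hmemC : ∀ x : P, pr m F (g x * s * (g x)⁻¹) ∈ C := fun x =>
    isConj_iff.mpr ⟨pr m F (g x), by rw [map_mul, map_mul, map_inv]⟩
  -- the image of a conjugate
  let lift : C → Sp := fun y => (pr_surjective y.1).choose
  have hlift : ∀ y : C, pr m F (lift y) = y.1 := fun y => (pr_surjective y.1).choose_spec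
  let R : C → Set V := fun y => Set.range fun z : V => ((lift y).1 - 1) *ᵥ z
  have hliftx : ∀ x : P, lift ⟨_, hmemC x⟩ = g x * s * (g x)⁻¹ := fun x => hprinj (hlift _)
  have hconj : ∀ (g : Sp) (z : V), ((g * s * g⁻¹ : Sp).1 - 1) *ᵥ (g.1 *ᵥ z) = g.1 *ᵥ ((s.1 - 1) *ᵥ z) := by
    intro g z
    rw [Submonoid.coe_mul, Submonoid.coe_mul, Matrix.sub_mulVec, ← Matrix.mulVec_mulVec, ← Matrix.mulVec_mulVec,
      sp_inv_mulVec, Matrix.one_mulVec, Matrix.sub_mulVec, Matrix.one_mulVec, Matrix.mulVec_sub]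
  have he1 : (s.1 - 1) *ᵥ (B⁻¹ • (dd i1)) = ee i0 := by
    rw [Matrix.mulVec_smul, hd1, smul_smul, inv_mul_cancel₀ hB, one_smul]
  have he2 : (s.1 - 1) *ᵥ (B⁻¹ • ((dd i0) - (A * B⁻¹) • (dd i1))) = ee i1 := by
    rw [Matrix.mulVec_smul, Matrix.mulVec_sub, Matrix.mulVec_smul, hd0, hd1, smul_smul, mul_assoc,
      inv_mul_cancel₀ hB, mul_one, add_sub_cancel_left, smul_smul, inv_mul_cancel₀ hB, one_smul]
  let Φ : P → Σ y : C, R y × R y := fun x => ⟨⟨_, hmemC x⟩,
    ⟨x.1.1, (g x).1 *ᵥ _, by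
      show ((lift _).1 - 1) *ᵥ ((g x).1 *ᵥ _) = _
      rw [hliftx, hconj, he1, hg0]⟩,
    ⟨x.2.1, (g x).1 *ᵥ _, by
      show ((lift _).1 - 1) *ᵥ ((g x).1 *ᵥ _) = _
      rw [hliftx, hconj, he2, hg1]⟩⟩
  have hΦ : Function.Injective Φ := by
    intro x y e
    have e1 : x.1.1 = y.1.1 := congrArg (fun z : Σ y : C, R y × R y => z.2.1.1) e
    have e2 : x.2.1 = y.2.1 := congrArg (fun z : Σ y : C, R y × R y => z.2.2.1) e
    obtain ⟨⟨u, hu⟩, w, hw⟩ := x
    obtain ⟨⟨u', hu'⟩, w', hw'⟩ := y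
    subst e1 e2
    rfl
  have hR : ∀ y : C, Nat.card (R y) ≤ q ^ 2 := by
    intro y
    obtain ⟨g', hg'⟩ := isConj_iff.mp (show IsConj (pr m F s) y.1 from y.2)
    obtain ⟨t, rfl⟩ := pr_surjective g'
    have hl : lift y = t * s * t⁻¹ := hprinj (by rw [hlift, ← hg', map_mul, map_mul, map_inv])
    have hsub : R y ⊆ Set.range fun pq : F × F => t.1 *ᵥ (pq.1 • (ee i0) + pq.2 • (ee i1)) := by
      rintro _ ⟨z, rfl⟩
      obtain ⟨p, r, hpr⟩ := himg (((t⁻¹ : Sp) : Matrix (Fin m ⊕ Fin m) (Fin m ⊕ Fin m) F) *ᵥ z)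
      refine ⟨(p, r), ?_⟩
      show t.1 *ᵥ _ = ((lift y).1 - 1) *ᵥ z
      rw [hl, ← hpr]
      conv_rhs => rw [← sp_mulVec_inv t z, hconj]
    refine (Nat.card_mono (Set.finite_range _) hsub).trans ((Finite.card_range_le _).trans ?_)
    rw [Nat.card_prod, pow_two]
  have hP : (q ^ (2 * m) - 1) * (q ^ (2 * m - 1) - q) ≤ Nat.card P := by
    have hU : Nat.card U = q ^ (2 * m) - 1 := by
      rw [← ncard_nonzero, ← Nat.card_coe_set_eq]; rfl
    haveI : Fintype U := Fintype.ofFinite U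
    rw [Nat.card_sigma]
    have hfib : ∀ u : U, q ^ (2 * m - 1) - q ≤ Nat.card ↑({w : V | f u.1 w = 0} \ {w : V | ∃ a : F, a • u.1 = w}) := by
      intro u
      rw [Nat.card_coe_set_eq]
      refine le_trans ?_ (Set.le_ncard_diff _ _)
      refine tsub_le_tsub (le_of_eq ?_) ?_
      · have h := ncard_perp (m := m) u.2
        have hqp : 0 < q := Nat.card_pos
        apply Nat.eq_of_mul_eq_mul_right hqp
        rw [h, ← pow_succ, Nat.sub_add_cancel (by omega)]
      · rw [show {w : V | ∃ a : F, a • u.1 = w} = Set.range (fun a : F => a • u.1) from rfl]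
        rw [← Nat.card_coe_set_eq]
        exact Finite.card_range_le _
    refine le_trans (le_of_eq ?_) (Finset.sum_le_sum fun u _ => hfib u)
    rw [Finset.sum_const, Finset.card_univ, smul_eq_mul, ← Nat.card_eq_fintype_card, hU]
  have hbound : Nat.card P ≤ C.ncard * (q ^ 2 * q ^ 2) := by
    refine (Nat.card_le_card_of_injective Φ hΦ).trans ?_
    have : Fintype C := Fintype.ofFinite C
    rw [Nat.card_sigma]
    refine (Finset.sum_le_sum (g := fun _ => q ^ 2 * q ^ 2) fun y _ => ?_).trans (le_of_eq ?_)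
    · rw [Nat.card_prod]; exact Nat.mul_le_mul (hR y) (hR y)
    · rw [Finset.sum_const, Finset.card_univ, smul_eq_mul, ← Nat.card_eq_fintype_card, Nat.card_coe_set_eq]
  have hq2 : 2 ≤ q := Finite.one_lt_card
  by_contra hle
  push Not at hle
  have h3 : q ^ (2 * m - 1) - q ≤ q ^ 4 := by
    have hpos : 0 < q ^ (2 * m) - 1 := by
      have : 2 ≤ q ^ (2 * m) := hq2.trans (Nat.le_self_pow (by omega) q)
      omega
    refine Nat.le_of_mul_le_mul_left ?_ hpos
    exact hP.trans (hbound.trans ((Nat.mul_le_mul_right _ hle).trans (le_of_eq (by ring))))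
  have h5 : q ^ 5 ≤ q ^ (2 * m - 1) := Nat.pow_le_pow_right (by omega) (by omega)
  have h4 : q ^ 4 * 2 ≤ q ^ 5 := by rw [pow_succ q 4]; exact Nat.mul_le_mul_left _ hq2
  have h6 : q < q ^ 4 := by
    calc q = q ^ 1 := (pow_one q).symm
      _ < q ^ 4 := Nat.pow_lt_pow_right (by omega) (by omega)
  omega

/-- The automorphism invariant description of transvection classes. -/
def Crit (m : ℕ) (F : Type*) [Field F] (p : ℕ) (x : Cfsg.PSp m F) : Prop :=
  x ≠ 1 ∧ (∃ P : Sylow p (Cfsg.PSp m F), ∀ y ∈ P, y * x = x * y) ∧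
    (conjugatesOf x).ncard ≤ Nat.card F ^ (2 * m) - 1

theorem crit_TP [Finite F] (p : ℕ) [Fact p.Prime] [CharP F p] (hm : 1 ≤ m) {v : V} (hv : v ≠ 0) {c : F}
    (hc : c ≠ 0) : Crit m F p (TP v c) :=
  ⟨TP_ne_one hv hc, exists_sylow_central p hm hv c, ncard_conjugates_TP hv c⟩

theorem exists_central_form [Finite F] (p : ℕ) [Fact p.Prime] [CharP F p] (hm : 2 ≤ m) {x : PG}
    (P : Sylow p PG) (hP : ∀ y ∈ P, y * x = x * y) :
    ∃ g : PG, ∀ w ∈ upperW m F, pr m F w * (g * x * g⁻¹) = g * x * g⁻¹ * pr m F w := by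
  obtain ⟨Q, hQ⟩ := ((isPGroup_upperW (F := F) p (m := m) (by omega)).map (pr m F)).exists_le_sylow
  obtain ⟨g, hg⟩ := MulAction.exists_smul_eq PG P Q
  refine ⟨g, fun w hw => ?_⟩
  have h : pr m F w ∈ (g • P).toSubgroup := by rw [hg]; exact hQ ⟨w, hw, rfl⟩
  obtain ⟨z, hz, hze⟩ := h
  have hze' : g * z * g⁻¹ = pr m F w := hze
  rw [← hze', show g * z * g⁻¹ * (g * x * g⁻¹) = g * (z * x) * g⁻¹ by group, hP z hz]
  group

theorem isTP_of_crit [Finite F] (p : ℕ) [Fact p.Prime] [CharP F p] (hm : 2 ≤ m) (h : 3 ≤ m ∨ p ≠ 2) {x : PG}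
    (hx : Crit m F p x) : ∃ v : V, v ≠ 0 ∧ ∃ c : F, c ≠ 0 ∧ x = TP v c := by
  obtain ⟨hx1, ⟨P, hP⟩, hcard⟩ := hx
  obtain ⟨g, hg⟩ := exists_central_form p hm P hP
  rcases centralises_W hm hg with ⟨c, hc⟩ | ⟨h2, s, A, B, hs, hB, himg, hd0, hd1⟩
  · obtain ⟨t, rfl⟩ := pr_surjective g
    set e : V := ee (⟨0, by omega⟩ : Fin m)
    have he : e ≠ 0 := by simp [e]
    have hxe : x = (pr m F t)⁻¹ * TP e c * pr m F t := by rw [← hc]; group
    refine ⟨((t⁻¹ : Sp) : Matrix _ _ F) *ᵥ e, sp_ne he, c, fun hc0 => hx1 ?_, ?_⟩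
    · rw [hxe, hc0, TP_zero]; group
    · rw [hxe, ← conj_TP t⁻¹, map_inv, inv_inv]
  · exfalso
    have hm3 : 3 ≤ m := by
      rcases h with h | h
      · exact h
      · exfalso
        apply h
        have h2' : ((2 : ℕ) : F) = 0 := by exact_mod_cast h2
        rw [CharP.cast_eq_zero_iff F p] at h2'
        exact (Nat.prime_dvd_prime_iff_eq Fact.out Nat.prime_two).mp h2'
    have hgt := ncard_conjugates_gt hm3 h2 hB (i0 := ⟨0, by omega⟩) (i1 := ⟨1, by omega⟩) rfl rfl (fun y => ⟨_, _, himg y⟩) hd0 hd1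
    rw [hs, ← (show IsConj x (g * x * g⁻¹) from isConj_iff.mpr ⟨g, rfl⟩).conjugatesOf_eq] at hgt
    omega

theorem crit_map [Finite F] {p : ℕ} [Fact p.Prime] (α : MulAut PG) {x : PG} (hx : Crit m F p x) :
    Crit m F p (α x) := by
  obtain ⟨h1, ⟨P, hP⟩, h3⟩ := hx
  refine ⟨fun h => h1 (α.injective (h.trans (map_one α).symm)), ⟨P.mapSurjective (show Function.Surjective α.toMonoidHom from α.surjective), ?_⟩, ?_⟩
  · rintro _ ⟨y, hy, rfl⟩
    simp only [MulEquiv.coe_toMonoidHom, ← map_mul, hP y hy]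
  · have : conjugatesOf (α x) = α '' conjugatesOf x := by
      ext y
      constructor
      · intro hy
        obtain ⟨g, rfl⟩ := isConj_iff.mp (show IsConj (α x) y from hy)
        exact ⟨α.symm g * x * (α.symm g)⁻¹, isConj_iff.mpr ⟨_, rfl⟩, by simp⟩
      · rintro ⟨z, hz, rfl⟩
        exact MonoidHom.map_isConj α.toMonoidHom hz
    rw [this, Set.ncard_image_of_injective _ α.injective]
    exact h3

theorem transPres_all [Finite F] (p : ℕ) [Fact p.Prime] [CharP F p] (hm : 2 ≤ m) (h : 3 ≤ m ∨ p ≠ 2)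
    (α : MulAut PG) : TransPres (m := m) (F := F) α :=
  fun _ hv _ hc => ⟨isTP_of_crit p hm h (crit_map α (crit_TP p (by omega) hv hc)),
    isTP_of_crit p hm h (crit_map α⁻¹ (crit_TP p (by omega) hv hc))⟩

theorem gammaPSp_eq_top [Finite F] (p : ℕ) [Fact p.Prime] [CharP F p] (hm : 2 ≤ m) (h : 3 ≤ m ∨ p ≠ 2) :
    Cfsg.gammaPSp m F = ⊤ :=
  top_unique fun α _ => gammaPSp_contains hm (transPres_all p hm h α)

end Cfsg.Agent.AutPSp
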