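import Cfsg.Agent.Lib.AutPSp.Basic

/-!
# Automorphisms of PSp that permute transvection classes are semilinear
* `TransPres α`; `gammaPSp_contains` : such an automorphism lies in `gammaPSp`
* `exists_semilinear_eq` : it is `indAut (conj g * galGL σ)` with `g ∈ GSp`
-/

set_option autoImplicit false

open Matrix

namespace Cfsg.Agent.AutPSp

variable {m : ℕ} {F : Type*} [Field F]

local notation "V" => (Fin m ⊕ Fin m → F)
local notation "f" => Cfsg.sympForm m F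
local notation "PG" => Cfsg.PSp m F

/-- `α` and its inverse send transvection classes to transvection classes. -/
def TransPres (α : MulAut PG) : Prop :=
  ∀ v : V, v ≠ 0 → ∀ c : F, c ≠ 0 →
    (∃ v', v' ≠ 0 ∧ ∃ c', c' ≠ 0 ∧ α (TP v c) = TP v' c') ∧
    (∃ v', v' ≠ 0 ∧ ∃ c', c' ≠ 0 ∧ α⁻¹ (TP v c) = TP v' c')

theorem sympForm_galois (σ : F ≃+* F) (u v : V) : f (σ ∘ u) (σ ∘ v) = σ (f u v) := by
  simp [Linear.sympForm_eq_sum]

theorem galois_ne (σ : F ≃+* F) {v : V} (hv : v ≠ 0) : σ ∘ v ≠ 0 := by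
  intro h
  exact hv (funext fun i => by simpa using congrFun h i)

theorem gl_ne (g : GL (Fin m ⊕ Fin m) F) {v : V} (hv : v ≠ 0) : g.1 *ᵥ v ≠ 0 := by
  intro h
  exact hv (Matrix.mulVec_injective_of_isUnit g.isUnit (by rw [h, Matrix.mulVec_zero]))

theorem gl_mulVec_inv (g : GL (Fin m ⊕ Fin m) F) (x : V) :
    g.1 *ᵥ ((g⁻¹ : GL (Fin m ⊕ Fin m) F).1 *ᵥ x) = x := by
  rw [Matrix.mulVec_mulVec, ← Units.val_mul, mul_inv_cancel, Units.val_one, Matrix.one_mulVec]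

theorem gl_inv_mulVec (g : GL (Fin m ⊕ Fin m) F) (x : V) :
    (g⁻¹ : GL (Fin m ⊕ Fin m) F).1 *ᵥ (g.1 *ᵥ x) = x := by
  rw [Matrix.mulVec_mulVec, ← Units.val_mul, inv_mul_cancel, Units.val_one, Matrix.one_mulVec]

theorem galois_mulVec (σ : F ≃+* F) (A : Matrix (Fin m ⊕ Fin m) (Fin m ⊕ Fin m) F) (x : V) :
    A.map σ *ᵥ (σ ∘ x) = σ ∘ (A *ᵥ x) := by
  ext i; simp [Matrix.mulVec, dotProduct]

theorem galois_surj (σ : F ≃+* F) (x : V) : ∃ y : V, σ ∘ y = x :=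
  ⟨σ.symm ∘ x, funext fun i => by simp⟩

/-- A linear map preserving the orthogonality pattern is a similitude. -/
theorem exists_ratio (g : GL (Fin m ⊕ Fin m) F) (hm : 0 < m)
    (h : ∀ u v : V, f u v = 0 → f (g.1 *ᵥ u) (g.1 *ᵥ v) = 0) :
    ∃ l : F, l ≠ 0 ∧ ∀ u v : V, f (g.1 *ᵥ u) (g.1 *ᵥ v) = l * f u v := by
  set B : V → V → F := fun u v => f (g.1 *ᵥ u) (g.1 *ᵥ v)
  have one : ∀ u v w : V, f u w ≠ 0 → B u v = f u v * (B u w / f u w) := by
    intro u v w huw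
    have h0 := h u (v - (f u v / f u w) • w) (by simp [huw])
    simp only [Matrix.mulVec_sub, Matrix.mulVec_smul, Linear.sympForm_sub_right, Linear.sympForm_smul_right] at h0
    field_simp at h0 ⊢
    linear_combination h0
  have Bswap : ∀ u v, B u v = - B v u := fun u v => Linear.sympForm_swap _ _
  let e : V := Pi.single (Sum.inl ⟨0, hm⟩) 1
  obtain ⟨d, hd⟩ := Linear.exists_sympForm_ne_zero (show e ≠ 0 by simp [e])
  set l := B e d / f e d with hl
  -- the ratio at any vector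
  have r1 : ∀ u w : V, f e u ≠ 0 → f u w ≠ 0 → B u w / f u w = l := by
    intro u w heu huw
    have h1 := one e u d hd
    have h2 := one u e w huw
    rw [Bswap u e, Linear.sympForm_swap u e, h1] at h2
    rw [← hl] at h2
    apply mul_left_cancel₀ heu
    linear_combination h2
  have r2 : ∀ u w : V, f u w ≠ 0 → B u w / f u w = l := by
    intro u w huw
    by_cases heu : f e u = 0
    · have hu : u ≠ 0 := fun h => by simp [h] at huw
      obtain ⟨z, hz1, hz2⟩ : ∃ z, f e z ≠ 0 ∧ f u z ≠ 0 := by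
        obtain ⟨w₁, hw₁⟩ := Linear.exists_sympForm_ne_zero hu
        by_cases a : f e w₁ ≠ 0
        · exact ⟨w₁, a, hw₁⟩
        by_cases b : f u d ≠ 0
        · exact ⟨d, hd, b⟩
        push Not at a b
        exact ⟨w₁ + d, by simp [a, hd], by simp [b, hw₁]⟩
      have hzu : f z u ≠ 0 := by rwa [Linear.sympForm_swap, neg_ne_zero]
      have h3 := r1 z u hz1 hzu
      have h4 := one u w z hz2
      rw [h4, mul_div_cancel_left₀ _ huw, Bswap u z, Linear.sympForm_swap u z, neg_div_neg_eq, h3]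
    · exact r1 u w heu huw
  have key : ∀ u v, B u v = l * f u v := by
    intro u v
    by_cases huv : f u v = 0
    · rw [huv, mul_zero]; exact h u v huv
    · rw [← r2 u v huv, div_mul_cancel₀ _ huv]
  refine ⟨l, fun hl0 => ?_, key⟩
  obtain ⟨x, hx⟩ := Linear.exists_sympForm_ne_zero (gl_ne g (show e ≠ 0 by simp [e]))
  have := key e ((g⁻¹ : GL (Fin m ⊕ Fin m) F).1 *ᵥ x)
  simp only [B, gl_mulVec_inv, hl0, zero_mul] at this
  exact hx this


/-- The semilinear automorphism of a similitude. -/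
noncomputable def semiAut {g : GL (Fin m ⊕ Fin m) F} (hg : g ∈ Cfsg.GSp m F) (σ : F ≃+* F) : MulAut PG :=
  FieldAut.indAut FieldAut.spMat_injective
    ⟨MulAut.conj g * FieldAut.galGL σ, mul_mem (FieldAut.keep_conj_GSp hg) (FieldAut.keep_gal σ)⟩

theorem semi_TP {g : GL (Fin m ⊕ Fin m) F} {l : F} (σ : F ≃+* F) (hg : g ∈ Cfsg.GSp m F)
    (hlf : ∀ u v : V, f (g.1 *ᵥ u) (g.1 *ᵥ v) = l * f u v) (hl : l ≠ 0) (v : V) (c : F) :
    FieldAut.indAut FieldAut.spMat_injective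
      ⟨MulAut.conj g * FieldAut.galGL σ, mul_mem (FieldAut.keep_conj_GSp hg) (FieldAut.keep_gal σ)⟩ (TP v c) =
      TP (g.1 *ᵥ (σ ∘ v)) (σ c / l) := by
  rw [TP, TP, pr, QuotientGroup.mk'_apply, FieldAut.indAut_mk]
  congr 1
  refine sp_ext fun x => ?_
  rw [← FieldAut.spMat_coe, FieldAut.mat_liftAut]
  show ((g * FieldAut.galGL σ (FieldAut.spMat m F (tv v c)) * g⁻¹ : GL (Fin m ⊕ Fin m) F) :
    Matrix (Fin m ⊕ Fin m) (Fin m ⊕ Fin m) F) *ᵥ x = _
  rw [Units.val_mul, Units.val_mul, ← Matrix.mulVec_mulVec, ← Matrix.mulVec_mulVec, tv_mulVec,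
    FieldAut.galGL_apply_coe, FieldAut.spMat_coe]
  obtain ⟨y, hy⟩ := galois_surj σ ((g⁻¹ : GL (Fin m ⊕ Fin m) F).1 *ᵥ x)
  have hx : x = g.1 *ᵥ (σ ∘ y) := by rw [hy, gl_mulVec_inv]
  rw [← hy, galois_mulVec, tv_mulVec]
  conv_rhs => rw [hx, hlf, sympForm_galois]
  have e : σ ∘ (y + (c * f y v) • v) = σ ∘ y + (σ c * σ (f y v)) • (σ ∘ v) := by
    funext i; simp
  rw [e, Matrix.mulVec_add, Matrix.mulVec_smul]
  congr 2
  field_simp

theorem TransPres.perp_iff {α : MulAut (Cfsg.PSp m F)} (_hα : TransPres (m := m) (F := F) α) {u v u' v' : V} {a b a' b' : F} (hu : u ≠ 0) (hv : v ≠ 0)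
    (ha : a ≠ 0) (hb : b ≠ 0) (hu' : u' ≠ 0) (hv' : v' ≠ 0) (ha' : a' ≠ 0) (hb' : b' ≠ 0)
    (e1 : α (TP u a) = TP u' a') (e2 : α (TP v b) = TP v' b') : f u v = 0 ↔ f u' v' = 0 := by
  rw [← TP_comm_iff hu hv ha hb, ← TP_comm_iff hu' hv' ha' hb', ← e1, ← e2]
  exact ⟨fun h => h.map α, fun h => by simpa using h.map α.symm⟩

theorem par_form {u v : V} (h : Par u v) (z : V) : f z u = 0 ↔ f z v = 0 := by
  obtain ⟨k, hk, rfl⟩ := h
  simp [hk]

theorem par_form' {u v : V} (h : Par u v) (z : V) : f u z = 0 ↔ f v z = 0 := by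
  obtain ⟨k, hk, rfl⟩ := h
  simp [hk]

/-- The point map. -/
theorem TransPres.exists_collineation {α : MulAut (Cfsg.PSp m F)} (hα : TransPres (m := m) (F := F) α) :
    ∃ π : V → V, IsColl π ∧ (∀ y, y ≠ 0 → ∃ x, x ≠ 0 ∧ Par (π x) y) ∧
      (∀ u v, u ≠ 0 → v ≠ 0 → (f u v = 0 ↔ f (π u) (π v) = 0)) ∧
      (∀ v, v ≠ 0 → ∀ c, c ≠ 0 → ∃ v', Par (π v) v' ∧ ∃ c', c' ≠ 0 ∧ α (TP v c) = TP v' c') := by
  classical
  have h1 : ∀ v : V, ∃ v', v ≠ 0 → v' ≠ 0 ∧ ∃ c', c' ≠ 0 ∧ α (TP v 1) = TP v' c' := by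
    intro v
    by_cases hv : v = 0
    · exact ⟨0, fun h => absurd hv h⟩
    · obtain ⟨v', hv', c', hc', e⟩ := (hα v hv 1 one_ne_zero).1
      exact ⟨v', fun _ => ⟨hv', c', hc', e⟩⟩
  choose π hπ using h1
  have hne : ∀ v, v ≠ 0 → π v ≠ 0 := fun v hv => (hπ v hv).1
  have horth : ∀ u v, u ≠ 0 → v ≠ 0 → (f u v = 0 ↔ f (π u) (π v) = 0) := by
    intro u v hu hv
    obtain ⟨hu', a', ha', e1⟩ := hπ u hu
    obtain ⟨hv', b', hb', e2⟩ := hπ v hv
    exact hα.perp_iff hu hv one_ne_zero one_ne_zero hu' hv' ha' hb' e1 e2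
  have hsurj : ∀ y, y ≠ 0 → ∃ x, x ≠ 0 ∧ Par (π x) y := by
    intro y hy
    obtain ⟨x, hx, c, hc, e⟩ := (hα y hy 1 one_ne_zero).2
    have e1 : α (TP x c) = TP y 1 := by rw [← e]; exact α.apply_symm_apply _
    refine ⟨x, hx, par_of_perp (hne x hx) hy fun z hz => ?_⟩
    by_cases hz0 : z = 0
    · simp [hz0]
    obtain ⟨z', hz', d, hd, e'⟩ := (hα z hz0 1 one_ne_zero).2
    have e2 : α (TP z' d) = TP z 1 := by rw [← e']; exact α.apply_symm_apply _
    obtain ⟨hx', a', ha', ex⟩ := hπ x hx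
    have i1 := hα.perp_iff hz' hx hd one_ne_zero hz0 hx' one_ne_zero ha' e2 ex
    have i2 := hα.perp_iff hz' hx hd hc hz0 hy one_ne_zero one_ne_zero e2 e1
    exact i2.mp (i1.mpr hz)
  have htest : ∀ (P : V → Prop), (∀ z, z ≠ 0 → P (π z)) → (∀ z (k : F), k ≠ 0 → P z → P (k • z)) →
      P 0 → ∀ z, P z := by
    intro P hP hk h0 z
    by_cases hz : z = 0
    · subst hz; exact h0
    obtain ⟨x, hx, k, hk0, rfl⟩ := hsurj z hz
    exact hk _ k hk0 (hP x hx)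
  refine ⟨π, ⟨hne, ?_, ?_⟩, hsurj, horth, ?_⟩
  · intro u v w hu hv hw hm
    refine mem_span_of_perp (htest (fun z => f z (π u) = 0 → f z (π v) = 0 → f z (π w) = 0) ?_ ?_ (by simp))
    · intro z hz a b
      rw [← horth z u hz hu] at a
      rw [← horth z v hz hv] at b
      rw [← horth z w hz hw]
      obtain ⟨p, q, rfl⟩ := Submodule.mem_span_pair.mp hm
      simp [a, b]
    · intro z k hk h a b
      simp [hk] at a b
      simp [h a b]
  · intro u v hu hv hp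
    refine par_of_perp hu hv fun z hz => ?_
    by_cases hz0 : z = 0
    · simp [hz0]
    rw [horth z v hz0 hv, ← par_form hp, ← horth z u hz0 hu]
    exact hz
  · intro v hv c hc
    obtain ⟨v', hv', c', hc', e⟩ := (hα v hv c hc).1
    refine ⟨v', par_of_perp (hne v hv) hv' (htest (fun z => f z (π v) = 0 → f z v' = 0) ?_ ?_ (by simp)),
      c', hc', e⟩
    · intro z hz a
      rw [← horth z v hz hv] at a
      obtain ⟨hz', b', hb', e'⟩ := hπ z hz
      exact (hα.perp_iff hz hv one_ne_zero hc hz' hv' hb' hc' e' e).mp a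
    · intro z k hk h a
      simp [hk] at a
      simp [h a]

/-- An automorphism permuting the transvection classes is semilinear. -/
theorem exists_semilinear_eq [Finite F] (hm : 2 ≤ m) {α : MulAut (Cfsg.PSp m F)} (hα : TransPres (m := m) (F := F) α) :
    ∃ (g : GL (Fin m ⊕ Fin m) F) (σ : F ≃+* F) (hg : g ∈ Cfsg.GSp m F),
      α = FieldAut.indAut FieldAut.spMat_injective
        ⟨MulAut.conj g * FieldAut.galGL σ, mul_mem (FieldAut.keep_conj_GSp hg) (FieldAut.keep_gal σ)⟩ := by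
  obtain ⟨π, hπ, hsurj, horth, himg⟩ := hα.exists_collineation
  obtain ⟨g, σ, hgσ⟩ := hπ.exists_semilinear (by simp; omega) hsurj
  have hz : ∀ u v : V, f u v = 0 → f (g.1 *ᵥ u) (g.1 *ᵥ v) = 0 := by
    intro u v huv
    by_cases hu : u = 0
    · simp [hu]
    by_cases hv : v = 0
    · simp [hv]
    obtain ⟨u₀, rfl⟩ := galois_surj σ u
    obtain ⟨v₀, rfl⟩ := galois_surj σ v
    have hu₀ : u₀ ≠ 0 := fun h => hu (by funext i; simp [h])
    have hv₀ : v₀ ≠ 0 := fun h => hv (by funext i; simp [h])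
    rw [sympForm_galois, map_eq_zero] at huv
    rw [par_form' (hgσ u₀ hu₀), par_form (hgσ v₀ hv₀)]
    exact (horth u₀ v₀ hu₀ hv₀).mp huv
  obtain ⟨l, hl, hlf⟩ := exists_ratio g (by omega) hz
  have hgG : g ∈ Cfsg.GSp m F := ⟨Units.mk0 l hl, fun u v => hlf u v⟩
  refine ⟨g, σ, hgG, ?_⟩
  set β := FieldAut.indAut FieldAut.spMat_injective
    ⟨MulAut.conj g * FieldAut.galGL σ, mul_mem (FieldAut.keep_conj_GSp hgG) (FieldAut.keep_gal σ)⟩ with hβdef
  have hβ : ∀ (v : V) (c : F), β (TP v c) = TP (g.1 *ᵥ (σ ∘ v)) (σ c / l) := semi_TP σ hgG hlf hl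
  have hγ : ∀ v : V, v ≠ 0 → ∀ c : F, c ≠ 0 → ∃ c', c' ≠ 0 ∧ (β⁻¹ * α) (TP v c) = TP v c' := by
    intro v hv c hc
    obtain ⟨v', hpar, c', hc', e⟩ := himg v hv c hc
    obtain ⟨k, hk, rfl⟩ := (hgσ v hv).trans hpar
    refine ⟨σ.symm (k ^ 2 * c' * l), by simp [hk, hc', hl], ?_⟩
    rw [MulAut.mul_apply, e, TP_smul]
    apply β.injective
    rw [hβ]
    show β (β.symm _) = _
    rw [MulEquiv.apply_symm_apply, RingEquiv.apply_symm_apply]
    field_simp
  suffices h1 : β⁻¹ * α = 1 by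
    rwa [inv_mul_eq_one, eq_comm] at h1
  set γ := β⁻¹ * α
  refine MulEquiv.ext fun x => ?_
  obtain ⟨s, rfl⟩ := pr_surjective x
  obtain ⟨s', hs'⟩ := pr_surjective (γ (pr m F s))
  rw [MulAut.one_apply, ← hs']
  have hfix : ∀ v : V, v ≠ 0 → Par (s.1 *ᵥ v) (s'.1 *ᵥ v) := by
    intro v hv
    obtain ⟨c1, hc1, e1⟩ := hγ v hv 1 one_ne_zero
    obtain ⟨c2, hc2, e2⟩ := hγ (s.1 *ᵥ v) (sp_ne hv) 1 one_ne_zero
    have e3 := congrArg γ (conj_TP s v 1)
    rw [map_mul, map_mul, map_inv, e1, e2, ← hs', conj_TP] at e3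
    exact (TP_par (sp_ne hv) (sp_ne hv) hc1 e3).symm
  have hscal : FieldAut.spMat m F (s⁻¹ * s') ∈ Cfsg.Geo.scalars (Fin m ⊕ Fin m) F := by
    refine FieldAut.mem_scalars_of_eigen _ fun v hv => ?_
    obtain ⟨k, -, hk⟩ := hfix v hv
    refine ⟨k, ?_⟩
    rw [FieldAut.spMat_coe, Submonoid.coe_mul, ← Matrix.mulVec_mulVec, hk, Matrix.mulVec_smul, sp_inv_mulVec]
  have hc := FieldAut.center_of_scalar FieldAut.spRigid hscal
  symm
  show (QuotientGroup.mk s : PG) = QuotientGroup.mk s'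
  exact QuotientGroup.eq.mpr hc

/-- An automorphism permuting the transvection classes lies in `gammaPSp`. -/
theorem gammaPSp_contains [Finite F] (hm : 2 ≤ m) {α : MulAut (Cfsg.PSp m F)} (hα : TransPres (m := m) (F := F) α) : α ∈ Cfsg.gammaPSp m F := by
  obtain ⟨g, σ, hg, e⟩ := exists_semilinear_eq hm hα
  refine Subgroup.subset_closure ?_
  refine ⟨g, σ, hg, ?_⟩
  exact (FieldAut.isInd_semilinear g σ α).mpr ((FieldAut.isInd_iff FieldAut.spMat_injective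
    (mul_mem (FieldAut.keep_conj_GSp hg) (FieldAut.keep_gal σ))).mpr e)

end Cfsg.Agent.AutPSp
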