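import Cfsg.Agent.Lib.AutPSp.FourEven
import Cfsg.Agent.Lib.AutPSL.Count

/-!
# The outer automorphism group of PSp_4 in characteristic two is cyclic of order 2f
-/

set_option autoImplicit false

open Matrix

namespace Cfsg.Agent.AutPSp

variable {F : Type*} [Field F] [CharP F 2] [Finite F]

local notation "V" => (Fin 2 ⊕ Fin 2 → F)
local notation "Sp" => Matrix.symplecticGroup (Fin 2) F
local notation "PG" => Cfsg.PSp 2 F
local notation "ee" i => (Pi.single (Sum.inl i) 1 : Fin 2 ⊕ Fin 2 → F)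

/-- The class of a field automorphism in the outer automorphism group. -/
noncomputable def outGal (F : Type*) [Field F] : (F ≃+* F) →* Cfsg.Out (Cfsg.PSp 2 F) :=
  ((QuotientGroup.mk' (Cfsg.Inn (Cfsg.PSp 2 F))).comp (FieldAut.indAut FieldAut.spMat_injective)).comp
    (FieldAut.galGL.codRestrict (FieldAut.keep (FieldAut.spMat 2 F)) FieldAut.keep_gal)

theorem semiAut_class {g : GL (Fin 2 ⊕ Fin 2) F} (hg : g ∈ Cfsg.GSp 2 F) (σ : F ≃+* F) :
    (QuotientGroup.mk (semiAut hg σ) : Cfsg.Out PG) = outGal F σ := by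
  obtain ⟨d, hd⟩ := FieldAut.exists_sq_of_char_two (ringChar.eq F 2)
    (FieldAut.mult (m := 2) (by omega) ⟨g, hg⟩ : F)
  have hd0 : d ≠ 0 := fun h => (FieldAut.mult (m := 2) (by omega) ⟨g, hg⟩).ne_zero (by rw [← hd, h, mul_zero])
  obtain ⟨a, h, hgh⟩ := (FieldAut.eq_scal_mul_sp (by omega) ⟨g, hg⟩).1
    ⟨Units.mk0 d hd0, Units.ext (by simp [pow_two, hd])⟩
  have hh : FieldAut.spMat 2 F h ∈ Cfsg.GSp 2 F := FieldAut.spMat_mem_GSp h
  have e : semiAut hg σ = semiAut hh σ :=
    ((semiAut_eq_iff (by omega) hh hg σ σ).mpr ⟨rfl, a, hgh⟩).symm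
  have e2 : semiAut hh σ = MulAut.conj (QuotientGroup.mk h : PG) *
      FieldAut.indAut FieldAut.spMat_injective ⟨FieldAut.galGL σ, FieldAut.keep_gal σ⟩ := by
    rw [← FieldAut.inn_eq_conjAut FieldAut.spMat_injective (Cfsg.GSp 2 F) (fun _ => FieldAut.keep_conj_GSp) h hh,
      FieldAut.conjAut_apply, ← map_mul]
    rfl
  rw [e, e2]
  show _ = (QuotientGroup.mk _ : Cfsg.Out PG)
  rw [QuotientGroup.mk_mul, (QuotientGroup.eq_one_iff _).mpr (show MulAut.conj (QuotientGroup.mk h : PG) ∈ Cfsg.Inn PG from ⟨_, rfl⟩), one_mul]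
  rfl

theorem one_mem_semiSet : (1 : MulAut PG) ∈ semiSet 2 F :=
  mem_semiSet_of_transPres le_rfl fun v hv c hc => ⟨⟨v, hv, c, hc, rfl⟩, ⟨v, hv, c, hc, by rw [inv_one]; rfl⟩⟩

theorem graph_sq_class :
    (QuotientGroup.mk (graphAut F) : Cfsg.Out PG) ^ 2 = outGal F (frobeniusEquiv F 2) := by
  have hγ : ∀ c : F, (graphAut F * graphAut F) (TP (ee 0) c) = TP (ee 0) (c ^ 2) := fun c => by
    rw [MulAut.mul_apply, TP, graphAut_pr, graphAut_pr, phi_phi_tv]
    rfl
  rcases aut_cases (graphAut F * graphAut F) with h | h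
  · obtain ⟨⟨⟨g, hg⟩, σ⟩, h⟩ := h
    have hσ : σ = frobeniusEquiv F 2 := by
      obtain ⟨l, hl, hlf⟩ := exists_multiplier hg
      have he : ∀ c : F, TP (g.1 *ᵥ (σ ∘ (ee 0))) (σ c / l) = TP (ee 0) (c ^ 2) := fun c => by
        rw [← semi_TP σ hg hlf hl, ← hγ c, ← h]; rfl
      have hv : g.1 *ᵥ (σ ∘ (ee 0)) ≠ 0 := gl_ne g (galois_ne σ (by simp))
      obtain ⟨k, hk, ek⟩ := (TP_par hv (by simp) (by simp [hl]) (he 1))
      have key : ∀ c : F, σ c / l = k ^ 2 * c ^ 2 := by
        intro c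
        refine TP_inj hv ?_
        have e2 := TP_smul k (g.1 *ᵥ (σ ∘ (ee 0))) (c ^ 2)
        rw [← ek] at e2
        exact (he c).trans e2
      have h1 : 1 / l = k ^ 2 := by simpa using key 1
      refine RingEquiv.ext fun c => ?_
      rw [frobeniusEquiv_def]
      have := key c
      rw [← h1] at this
      field_simp at this
      exact this
    rw [pow_two, ← QuotientGroup.mk_mul, ← h, semiAut_class hg σ, hσ]
  · exfalso
    rw [inv_mul_cancel_left] at h
    exact graph_mul_not_semi one_mem_semiSet (by rwa [mul_one])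

theorem frob_generates (f : ℕ) (hf : 1 ≤ f) (hF : Nat.card F = 2 ^ f) :
    ∀ σ : F ≃+* F, σ ∈ Subgroup.zpowers (frobeniusEquiv F 2) := by
  classical
  haveI := Fintype.ofFinite F
  haveI : Fact (Nat.Prime 2) := ⟨Nat.prime_two⟩
  have hcard : Nat.card (F ≃+* F) = f :=
    (AutPSL.fieldAut_facts 2 f hf (by rw [← Nat.card_eq_fintype_card, hF])).2
  haveI : Finite (F ≃+* F) := Nat.finite_of_card_ne_zero (by omega)
  have hit : ∀ (i : ℕ) (c : F), (frobeniusEquiv F 2 ^ i) c = c ^ 2 ^ i := by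
    intro i
    induction i with
    | zero => intro c; simp
    | succ i ih =>
      intro c
      rw [pow_succ', RingAut.mul_apply, ih, frobeniusEquiv_def, ← pow_mul, ← pow_succ]
  set k := orderOf (frobeniusEquiv F 2)
  have hk : 0 < k := orderOf_pos _
  have hroot : ∀ c : F, c ^ 2 ^ k = c := by
    intro c
    rw [← hit, pow_orderOf_eq_one]
    rfl
  have hle : 2 ^ f ≤ 2 ^ k := by
    have hne : (Polynomial.X ^ 2 ^ k - Polynomial.X : Polynomial F) ≠ 0 :=
      FiniteField.X_pow_card_sub_X_ne_zero F (Nat.one_lt_two_pow hk.ne')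
    have h1 := Polynomial.card_roots' (Polynomial.X ^ 2 ^ k - Polynomial.X : Polynomial F)
    rw [FiniteField.X_pow_card_sub_X_natDegree_eq F (Nat.one_lt_two_pow hk.ne')] at h1
    have h2 : (Finset.univ : Finset F).val ≤ (Polynomial.X ^ 2 ^ k - Polynomial.X : Polynomial F).roots := by
      rw [Multiset.le_iff_subset Finset.univ.nodup]
      intro c _
      rw [Polynomial.mem_roots hne]
      simp [hroot c]
    have h3 := (Multiset.card_le_card h2).trans h1
    rwa [Finset.card_val, Finset.card_univ, ← Nat.card_eq_fintype_card, hF] at h3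
  have hkf : f ≤ k := (Nat.pow_le_pow_iff_right (by norm_num)).mp hle
  intro σ
  have htop : Subgroup.zpowers (frobeniusEquiv F 2) = ⊤ :=
    Subgroup.eq_top_of_card_eq _ (le_antisymm (Subgroup.card_le_card_group _)
      (by rw [Nat.card_zpowers, hcard]; exact hkf))
  rw [htop]
  trivial

theorem out_cyclic_card (f : ℕ) (hf : 1 ≤ f) (hF : Nat.card F = 2 ^ f) :
    IsCyclic (Cfsg.Out PG) ∧ Nat.card (Cfsg.Out PG) = 2 * f := by
  haveI := Fintype.ofFinite F
  haveI : Fact (Nat.Prime 2) := ⟨Nat.prime_two⟩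
  constructor
  · refine ⟨QuotientGroup.mk (graphAut F), fun x => ?_⟩
    have hsemi : ∀ α ∈ semiSet 2 F, (QuotientGroup.mk α : Cfsg.Out PG) ∈ Subgroup.zpowers (QuotientGroup.mk (graphAut F)) := by
      rintro _ ⟨⟨⟨g, hg⟩, σ⟩, rfl⟩
      rw [semiAut_class hg σ]
      obtain ⟨i, rfl⟩ := Subgroup.mem_zpowers_iff.mp (frob_generates f hf hF σ)
      rw [map_zpow, ← graph_sq_class]
      exact zpow_mem (pow_mem (Subgroup.mem_zpowers _) 2) i
    obtain ⟨α, rfl⟩ := QuotientGroup.mk_surjective x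
    rcases aut_cases α with h | h
    · exact hsemi α h
    · have := mul_mem (Subgroup.mem_zpowers _) (hsemi _ h)
      rwa [← QuotientGroup.mk_mul, mul_inv_cancel_left] at this
  · have hinj : Function.Injective (MulAut.conj : PG →* MulAut PG) := by
      rw [injective_iff_map_eq_one]
      intro x hx
      obtain ⟨s, rfl⟩ := pr_surjective x
      have hz : s ∈ Subgroup.center Sp := by
        rw [Subgroup.mem_center_iff]
        intro h
        apply pr_injective
        have := congrArg (fun α : MulAut PG => α (pr 2 F h)) hx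
        simp only [MulAut.conj_apply, MulAut.one_apply] at this
        rw [map_mul, map_mul]
        exact (mul_inv_eq_iff_eq_mul.mp this).symm
      rcases GLOrder.center_Sp.1 hz with h | h
      · rw [show s = 1 from Subtype.ext h, map_one]
      · rw [show s = 1 from Subtype.ext (by rw [h, neg_mat]; rfl), map_one]
    have h1 := Subgroup.card_eq_card_quotient_mul_card_subgroup (Cfsg.Inn PG)
    rw [← Nat.card_congr (MonoidHom.ofInjective hinj).toEquiv, card_mulAut_four,
      card_semiSet (by omega), Nat.card_congr (Equiv.ofBijective _ ⟨pr_injective, pr_surjective⟩),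
      (AutPSL.fieldAut_facts 2 f hf (by rw [← Nat.card_eq_fintype_card, hF])).2] at h1
    have hpos : 0 < Nat.card PG := Nat.card_pos
    refine Nat.eq_of_mul_eq_mul_right hpos ?_
    rw [← h1]
    ring

end Cfsg.Agent.AutPSp
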